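import Cfsg.Agent.PairSylow.Basic
import Cfsg.Agent.Coprime.Fitting

/-!
Local analysis in a minimal counterexample: central elements of Sylow subgroups, the weakly closed
subgroup they generate, and the centraliser lemma for invariant `p'`-subgroups.
-/

set_option autoImplicit false
set_option linter.unusedSectionVars false
set_option linter.style.haveILetI false

namespace Cfsg.Lib.PairSylow

open Subgroup Cfsg.Lib.Sft

universe u

variable {G : Type u} [Group G] [Finite G] {p : ℕ} [hp : Fact p.Prime]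

theorem centralizer_pCore_quotient (h : Cfsg.IsPSolvable p G) :
    centralizer (Cfsg.pCore p (G ⧸ Cfsg.pPrimeCore p G) : Set (G ⧸ Cfsg.pPrimeCore p G)) ≤
      Cfsg.pCore p (G ⧸ Cfsg.pPrimeCore p G) :=
  Cfsg.Lib.StableClosure.centralizer_pCore_le_of_pSolvable
    (Cfsg.Lib.GaschutzYen.isPSolvable_quotient _ h)
    Cfsg.Lib.Components.pPrimeCore_quotient_eq_bot

/-- A central element of a Sylow subgroup of a `p`-solvable group lies in `O_{p',p}`. -/
theorem mk_mem_pCore_of_central (h : Cfsg.IsPSolvable p G) (S : Sylow p G) {x : G}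
    (hc : ∀ s ∈ (S : Subgroup G), x * s = s * x) :
    QuotientGroup.mk' (Cfsg.pPrimeCore p G) x ∈ Cfsg.pCore p (G ⧸ Cfsg.pPrimeCore p G) := by
  refine centralizer_pCore_quotient h ?_
  rw [Subgroup.mem_centralizer_iff]
  intro c hcm
  obtain ⟨s, hs, rfl⟩ :=
    Cfsg.Lib.Coprime.pCore_le_sylow p (S.mapSurjective (QuotientGroup.mk'_surjective _)) hcm
  rw [← map_mul, ← map_mul, hc s hs]

/-- `x` is central in some Sylow subgroup. -/
def Cj (p : ℕ) (x : G) : Prop :=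
  ∃ S : Sylow p G, x ∈ (S : Subgroup G) ∧ ∀ s ∈ (S : Subgroup G), x * s = s * x

theorem Cj.conj {x : G} (h : Cj p x) (g : G) : Cj p (g * x * g⁻¹) := by
  obtain ⟨S, hx, hc⟩ := h
  refine ⟨g • S, Subgroup.smul_mem_pointwise_smul x (MulAut.conj g) _ hx, ?_⟩
  intro s hs
  obtain ⟨t, ht, rfl⟩ : ∃ t ∈ (S : Subgroup G), g * t * g⁻¹ = s := hs
  calc g * x * g⁻¹ * (g * t * g⁻¹) = g * (x * t) * g⁻¹ := by group
    _ = g * (t * x) * g⁻¹ := by rw [hc t ht]
    _ = g * t * g⁻¹ * (g * x * g⁻¹) := by group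

variable (hG : Ctx p G)
include hG

theorem Ctx.pairSolv (S T : Sylow p G) :
    Cfsg.IsPSolvable p ↥((S : Subgroup G) ⊔ (T : Subgroup G)) := hG.proper _ (hG.pair S T)

/-- Central elements of Sylow subgroups lie in `O_{p',p}` of every proper subgroup. -/
theorem Ctx.mem_core {M : Subgroup G} (hM : M ≠ ⊤) {x : G} (hx : Cj p x) (hxM : x ∈ M) :
    QuotientGroup.mk' (Cfsg.pPrimeCore p M) ⟨x, hxM⟩ ∈
      Cfsg.pCore p (M ⧸ Cfsg.pPrimeCore p M) := by
  obtain ⟨S, hxS, hcS⟩ := hx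
  set π := QuotientGroup.mk' (Cfsg.pPrimeCore p M)
  have hπ : Function.Surjective π := QuotientGroup.mk'_surjective _
  set U := Cfsg.pCore p (M ⧸ Cfsg.pPrimeCore p M)
  have hUp : IsPGroup p U := Cfsg.Lib.Components.isPGroup_pCore p
  have hHH := centralizer_pCore_quotient (hG.proper M hM)
  -- it is enough that the image lies in every Sylow subgroup
  suffices hall : ∀ T : Sylow p (M ⧸ Cfsg.pPrimeCore p M),
      π ⟨x, hxM⟩ ∈ (T : Subgroup (M ⧸ Cfsg.pPrimeCore p M)) by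
    obtain ⟨T⟩ := (inferInstance : Nonempty (Sylow p (M ⧸ Cfsg.pPrimeCore p M)))
    have h1 : π ⟨x, hxM⟩ ∈ (T : Subgroup (M ⧸ Cfsg.pPrimeCore p M)).normalCore := by
      intro b
      obtain ⟨t, ht, hbt⟩ : ∃ t ∈ (T : Subgroup (M ⧸ Cfsg.pPrimeCore p M)),
          b⁻¹ * t * b⁻¹⁻¹ = π ⟨x, hxM⟩ := hall (b⁻¹ • T)
      rw [← hbt]
      convert ht using 1
      group
    exact Cfsg.Lib.Components.le_pCore (T.isPGroup'.to_le (Subgroup.normalCore_le _)) h1
  intro T
  obtain ⟨T', rfl⟩ := Sylow.mapSurjective_surjective hπ p T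
  obtain ⟨T₁, hT₁⟩ := (T'.isPGroup'.map M.subtype).exists_le_sylow
  set X := (T₁ : Subgroup G) ⊔ (S : Subgroup G)
  have hXs : Cfsg.IsPSolvable p X := hG.pairSolv T₁ S
  set πX := QuotientGroup.mk' (Cfsg.pPrimeCore p X)
  have hxX : πX ⟨x, mem_sup_right hxS⟩ ∈ Cfsg.pCore p (X ⧸ Cfsg.pPrimeCore p X) :=
    mk_mem_pCore_of_central hXs (S.subtype le_sup_right)
      fun s hs => Subtype.ext (hcS s hs)
  set Y : Subgroup M := (T' : Subgroup M) ⊔ zpowers ⟨x, hxM⟩
  have hYX : ∀ m ∈ Y, (m : G) ∈ X := by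
    have : Y ≤ X.comap M.subtype :=
      sup_le (fun m hm => mem_sup_left (hT₁ ⟨m, hm, rfl⟩))
        (zpowers_le.2 (mem_sup_right hxS))
    exact fun m hm => this hm
  let f : ↥Y →* ↥X := (M.subtype.comp Y.subtype).codRestrict X fun m => hYX _ m.2
  have hf : Function.Injective f := fun a b hab =>
    Subtype.ext (Subtype.ext (congrArg Subtype.val hab :))
  let g : ↥Y →* M ⧸ Cfsg.pPrimeCore p M := π.comp Y.subtype
  set L := (Cfsg.pCore p (X ⧸ Cfsg.pPrimeCore p X)).comap (πX.comp f)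
  set K := (πX.comp f).ker
  have hKc : (Nat.card K).Coprime p := by
    refine (Cfsg.Lib.Components.coprime_card_pPrimeCore (G := X) p).coprime_dvd_left ?_
    rw [← card_map_of_injective hf]
    refine card_dvd_of_le ?_
    rintro _ ⟨a, ha, rfl⟩
    exact (QuotientGroup.eq_one_iff _).1 ha
  have hUg : U ≤ g.range := by
    intro c hc
    obtain ⟨t, ht, rfl⟩ := Cfsg.Lib.Coprime.pCore_le_sylow p (T'.mapSurjective hπ) hc
    exact ⟨⟨t, mem_sup_left ht⟩, rfl⟩
  have hKg : ∀ k ∈ K, g k = 1 := by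
    intro k hk
    have hKmc : (Nat.card (K.map g)).Coprime p := hKc.coprime_dvd_left (card_map_dvd K g)
    have hcen : K.map g ≤ centralizer (U : Set (M ⧸ Cfsg.pPrimeCore p M)) := by
      rintro _ ⟨l, hl, rfl⟩
      rw [Subgroup.mem_centralizer_iff]
      intro c hc
      obtain ⟨y, rfl⟩ := hUg hc
      have h1 : g y * g l * (g y)⁻¹ * (g l)⁻¹ = 1 := by
        refine eq_one_of_isPGroup_of_coprime hUp hKmc ?_ ?_
        · have := U.mul_mem hc
            ((inferInstance : U.Normal).conj_mem _ (U.inv_mem hc) (g l))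
          simpa [mul_assoc] using this
        · refine ⟨y * l * y⁻¹ * l⁻¹, K.mul_mem ?_ (K.inv_mem hl), by simp⟩
          exact (inferInstance : K.Normal).conj_mem l hl y
      rw [mul_inv_eq_one, mul_inv_eq_iff_eq_mul] at h1
      exact h1
    exact eq_one_of_isPGroup_of_coprime hUp hKmc (hHH (hcen ⟨k, hk, rfl⟩)) ⟨k, hk, rfl⟩
  have hLp : IsPGroup p (L.map g) := by
    rintro ⟨_, l, hl, rfl⟩
    obtain ⟨j, hj⟩ := Cfsg.Lib.Components.isPGroup_pCore (G := X ⧸ Cfsg.pPrimeCore p X) p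
      ⟨_, hl⟩
    refine ⟨j, Subtype.ext ?_⟩
    show g l ^ p ^ j = 1
    rw [← map_pow]
    refine hKg _ ?_
    show (πX.comp f) (l ^ p ^ j) = 1
    rw [map_pow]
    exact congrArg Subtype.val hj
  have hTg : ((T'.mapSurjective hπ : Sylow p _) : Subgroup (M ⧸ Cfsg.pPrimeCore p M)) ≤ g.range := by
    rintro _ ⟨t, ht, rfl⟩
    exact ⟨⟨t, mem_sup_left ht⟩, rfl⟩
  have hnorm : g.range ≤ normalizer ((L.map g : Subgroup _) : Set (M ⧸ Cfsg.pPrimeCore p M)) := by
    rintro _ ⟨y, rfl⟩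
    refine mem_normalizer_of_conj ?_
    rintro _ ⟨l, hl, rfl⟩
    exact ⟨y * l * y⁻¹, (inferInstance : L.Normal).conj_mem l hl y, by simp⟩
  have hsup := (T'.mapSurjective hπ).3
    (IsPGroup.to_sup_of_normal_right' (T'.mapSurjective hπ).2 hLp (hTg.trans hnorm)) le_sup_left
  rw [← hsup]
  exact mem_sup_right ⟨⟨⟨x, hxM⟩, mem_sup_right (mem_zpowers _)⟩, hxX, rfl⟩

/-- Two central elements of Sylow subgroups in a common `p`-subgroup commute. -/
theorem Ctx.commute_of_mem {x y : G} (hx : Cj p x) (hy : Cj p y) {R : Subgroup G}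
    (hR : IsPGroup p R) (hxR : x ∈ R) (hyR : y ∈ R) : x * y = y * x := by
  obtain ⟨S, hxS, hcS⟩ := hx
  obtain ⟨T, hyT, hcT⟩ := hy
  set X := (S : Subgroup G) ⊔ (T : Subgroup G)
  have hXs : Cfsg.IsPSolvable p X := hG.pairSolv S T
  set π := QuotientGroup.mk' (Cfsg.pPrimeCore p X)
  set xX : X := ⟨x, mem_sup_left hxS⟩
  set yX : X := ⟨y, mem_sup_right hyT⟩
  have h2 : π yX ∈ Cfsg.pCore p (X ⧸ Cfsg.pPrimeCore p X) :=
    mk_mem_pCore_of_central hXs (T.subtype le_sup_right) fun t ht => Subtype.ext (hcT t ht)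
  obtain ⟨s, hs, hsy⟩ := Cfsg.Lib.Coprime.pCore_le_sylow p
    ((S.subtype (le_sup_left : (S : Subgroup G) ≤ X)).mapSurjective
      (QuotientGroup.mk'_surjective _)) h2
  have hxs : xX * s = s * xX := Subtype.ext (hcS s hs)
  have h1 : π (xX * yX * xX⁻¹ * yX⁻¹) = 1 := by
    have hsy' : π s = π yX := hsy
    rw [map_mul, map_mul, map_mul, map_inv, map_inv, ← hsy', ← map_mul, hxs, map_mul]
    group
  have hmem : xX * yX * xX⁻¹ * yX⁻¹ ∈ Cfsg.pPrimeCore p X := (QuotientGroup.eq_one_iff _).1 h1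
  have hone : x * y * x⁻¹ * y⁻¹ = 1 := by
    refine eq_one_of_isPGroup_of_coprime (O := (Cfsg.pPrimeCore p X).map X.subtype) hR ?_
      (R.mul_mem (R.mul_mem (R.mul_mem hxR hyR) (R.inv_mem hxR)) (R.inv_mem hyR)) ⟨_, hmem, rfl⟩
    rw [card_map_of_injective X.subtype_injective]
    exact Cfsg.Lib.Components.coprime_card_pPrimeCore p
  rw [mul_inv_eq_one, mul_inv_eq_iff_eq_mul] at hone
  exact hone

omit hG

/-- The weakly closed subgroup. -/
def wcl (P : Sylow p G) : Subgroup G := closure {x | Cj p x ∧ x ∈ (P : Subgroup G)}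

theorem wcl_le (P : Sylow p G) : wcl P ≤ (P : Subgroup G) :=
  (closure_le _).2 fun _ h => h.2

theorem wcl_isPGroup (P : Sylow p G) : IsPGroup p (wcl P) := P.isPGroup'.to_le (wcl_le P)

theorem wcl_conj_mem (P : Sylow p G) {g : G} (h : ∀ v ∈ wcl P, g * v * g⁻¹ ∈ (P : Subgroup G))
    {v : G} (hv : v ∈ wcl P) : g * v * g⁻¹ ∈ wcl P := by
  suffices hle : wcl P ≤ (wcl P).comap (MulAut.conj g).toMonoidHom from hle hv
  refine (closure_le _).2 fun x hx => ?_
  exact subset_closure ⟨hx.1.conj g, h x (subset_closure hx)⟩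

theorem wcl_mem_normalizer (P : Sylow p G) {g : G}
    (h : ∀ v ∈ wcl P, g * v * g⁻¹ ∈ (P : Subgroup G)) :
    g ∈ normalizer (wcl P : Set G) :=
  mem_normalizer_of_conj fun _ hv => wcl_conj_mem P h hv

theorem wcl_gen_mem_normalizer (P : Sylow p G) {g : G}
    (h : ∀ x, Cj p x → x ∈ (P : Subgroup G) → g * x * g⁻¹ ∈ (P : Subgroup G)) :
    g ∈ normalizer (wcl P : Set G) := by
  refine wcl_mem_normalizer P fun v hv => ?_
  suffices hle : wcl P ≤ (P : Subgroup G).comap (MulAut.conj g).toMonoidHom from hle hv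
  exact (closure_le _).2 fun x hx => h x hx.1 hx.2

theorem normalizer_le_normalizer_wcl (P : Sylow p G) :
    normalizer ((P : Subgroup G) : Set G) ≤ normalizer (wcl P : Set G) := fun g hg =>
  wcl_mem_normalizer P fun v hv => (Subgroup.mem_normalizer_iff.1 hg v).1 (wcl_le P hv)

theorem le_normalizer_wcl (P : Sylow p G) :
    (P : Subgroup G) ≤ normalizer (wcl P : Set G) :=
  le_normalizer.trans (normalizer_le_normalizer_wcl P)

include hG

theorem Ctx.dvd_card : p ∣ Nat.card G := by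
  by_contra h
  exact hG.notSolv (Cfsg.Lib.CyclicPair.isPSolvable_of_not_dvd h)

theorem Ctx.wcl_comm (P : Sylow p G) {a b : G} (ha : a ∈ wcl P) (hb : b ∈ wcl P) :
    a * b = b * a := by
  haveI : IsMulCommutative (wcl P) :=
    Subgroup.isMulCommutative_closure fun x hx y hy => hG.commute_of_mem hx.1 hy.1 P.isPGroup' hx.2 hy.2
  exact congrArg Subtype.val (mul_comm' (⟨a, ha⟩ : wcl P) ⟨b, hb⟩)

theorem Ctx.wcl_ne_bot (P : Sylow p G) : wcl P ≠ ⊥ := by
  have hP : Nontrivial ↥(P : Subgroup G) :=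
    (Subgroup.nontrivial_iff_ne_bot _).2 (P.ne_bot_of_dvd_card hG.dvd_card)
  haveI := P.isPGroup'.center_nontrivial
  obtain ⟨⟨z, hz⟩, hne⟩ := exists_ne (1 : center ↥(P : Subgroup G))
  intro h
  have h1 : (z : G) ∈ wcl P := subset_closure ⟨⟨P, z.2, fun s hs =>
    congrArg Subtype.val (Subgroup.mem_center_iff.1 hz ⟨s, hs⟩).symm⟩, z.2⟩
  rw [h, Subgroup.mem_bot] at h1
  exact hne (Subtype.ext (Subtype.ext h1))

theorem Ctx.card_not_pGroup : ¬ IsPGroup p G := by
  intro h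
  obtain ⟨m, hm⟩ := IsPGroup.iff_card.1 h
  refine hG.notSolv (Cfsg.Lib.Blocks.isPSolvable_of_normal_pPrime (⊥ : Subgroup G) ?_ ⟨m, ?_⟩)
  · simp
  · rw [Subgroup.index_bot, hm]

theorem Ctx.normalizer_wcl_ne_top (P : Sylow p G) : normalizer (wcl P : Set G) ≠ ⊤ := by
  intro h
  rcases hG.simple _ (normalizer_eq_top_iff.1 h) with h1 | h1
  · exact hG.wcl_ne_bot P h1
  · exact hG.card_not_pGroup ((wcl_isPGroup P).of_equiv ((MulEquiv.subgroupCongr h1).trans Subgroup.topEquiv))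

theorem Ctx.center_eq_bot : center G = ⊥ := by
  rcases hG.simple (center G) inferInstance with h | h
  · exact h
  · exfalso
    refine hG.notSolv (Cfsg.Lib.Blocks.isPSolvable_of_solvable ?_)
    exact Group.isSolvable_of_comm fun a b =>
      (Subgroup.mem_center_iff.1 (h.ge (mem_top b)) a)

theorem Ctx.centralizer_ne_top {a : G} (ha : a ≠ 1) : centralizer ({a} : Set G) ≠ ⊤ := by
  intro h
  refine ha ?_
  rw [← Subgroup.mem_bot, ← hG.center_eq_bot, Subgroup.mem_center_iff]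
  exact fun g => Subgroup.mem_centralizer_singleton_iff.1 (h.ge (mem_top g))

/-- Factorisation of a proper overgroup of `P`. -/
theorem Ctx.factor (P : Sylow p G) {M : Subgroup G} (hM : M ≠ ⊤) (hPM : (P : Subgroup G) ≤ M)
    {m : G} (hm : m ∈ M) :
    ∃ k ∈ qcore' p M, k⁻¹ * m ∈ normalizer (wcl P : Set G) := by
  set π := QuotientGroup.mk' (Cfsg.pPrimeCore p M)
  set K := qcore' p M
  have hKn : (P : Subgroup G) ≤ normalizer (K : Set G) :=
    hPM.trans (le_normalizer.trans le_normalizer_qcore')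
  set V' := (wcl P).map (MulAut.conj m).toMonoidHom
  have hV' : V' ≤ K ⊔ (P : Subgroup G) := by
    rw [Subgroup.map_le_iff_le_comap]
    refine (closure_le _).2 fun x hx => ?_
    have hxM : m * x * m⁻¹ ∈ M := M.mul_mem (M.mul_mem hm (hPM hx.2)) (M.inv_mem hm)
    obtain ⟨t, ht, hte⟩ := Cfsg.Lib.Coprime.pCore_le_sylow p
      ((P.subtype hPM).mapSurjective (QuotientGroup.mk'_surjective _))
      (hG.mem_core hM (hx.1.conj m) hxM)
    have hk : (⟨_, hxM⟩ : M) * t⁻¹ ∈ Cfsg.pPrimeCore p M := by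
      rw [← QuotientGroup.eq_one_iff]
      show π (_ * t⁻¹) = 1
      rw [map_mul, map_inv]
      exact mul_inv_eq_one.2 hte.symm
    show m * x * m⁻¹ ∈ K ⊔ (P : Subgroup G)
    have h2 : m * x * m⁻¹ = ((⟨_, hxM⟩ : M) * t⁻¹ : M) * (t : G) := by simp
    rw [h2]
    exact mul_mem (mem_sup_left ⟨_, hk, rfl⟩) (mem_sup_right ht)
  obtain ⟨k, hk, hkP⟩ :=
    exists_conj_le coprime_qcore' P.isPGroup' hKn ((wcl_isPGroup P).map _) hV'
  refine ⟨k, hk, wcl_mem_normalizer P fun v hv => ?_⟩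
  have := hkP _ ⟨v, hv, rfl⟩
  simpa [mul_assoc] using this

/-- Every element is a product of an element of a `p'`-subgroup normalised by `P` and by its
conjugate and an element of the normaliser of the weakly closed subgroup. -/
theorem Ctx.exists_theta (P : Sylow p G) (g : G) :
    ∃ (k : G) (Θ : Subgroup G), k⁻¹ * g ∈ normalizer (wcl P : Set G) ∧ k ∈ Θ ∧
      (Nat.card Θ).Coprime p ∧ (P : Subgroup G) ≤ normalizer (Θ : Set G) ∧
      ((g • P : Sylow p G) : Subgroup G) ≤ normalizer (Θ : Set G) := by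
  set X := (P : Subgroup G) ⊔ ((g • P : Sylow p G) : Subgroup G)
  obtain ⟨m, hm⟩ := MulAction.exists_smul_eq X (P.subtype (le_sup_left : _ ≤ X))
    ((g • P : Sylow p G).subtype (le_sup_right : _ ≤ X))
  obtain ⟨k, hk, hkn⟩ := hG.factor P (hG.pair P (g • P)) le_sup_left m.2
  have hmg : ((m : G)⁻¹ * g) • P = P := by
    have h1 : ((m : G) • P : Sylow p G) = g • P := by
      apply Sylow.subtype_injective (P := (m : G) • P) (Q := g • P) (hP := ?_) (hQ := le_sup_right)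
      · rw [Sylow.smul_subtype le_sup_left] at hm
        exact hm
    rw [mul_smul, ← h1, inv_smul_smul]
  have h2 := normalizer_le_normalizer_wcl P (Sylow.smul_eq_iff_mem_normalizer.1 hmg)
  have h3 : X ≤ normalizer ((qcore' p X : Subgroup G) : Set G) :=
    le_normalizer.trans le_normalizer_qcore'
  refine ⟨k, qcore' p X, ?_, hk, coprime_qcore', le_sup_left.trans h3, le_sup_right.trans h3⟩
  have := mul_mem hkn h2
  simpa [mul_assoc] using this

/-- The key lemma: on an invariant `p'`-subgroup the centraliser of `a` lies in the core of its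
centraliser. -/
theorem Ctx.key (P : Sylow p G) {X : Subgroup G} (hX : (Nat.card X).Coprime p)
    (hPX : (P : Subgroup G) ≤ normalizer (X : Set G)) {a : G} (ha : a ∈ wcl P) (ha1 : a ≠ 1)
    {w : G} (hw : w ∈ X) (hwa : w ∈ centralizer ({a} : Set G)) :
    (⟨w, hwa⟩ : ↥(centralizer ({a} : Set G))) ∈
      Cfsg.pPrimeCore p ↥(centralizer ({a} : Set G)) := by
  set D := centralizer ({a} : Set G)
  have hD := hG.centralizer_ne_top ha1
  set π := QuotientGroup.mk' (Cfsg.pPrimeCore p D)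
  set U := Cfsg.pCore p (D ⧸ Cfsg.pPrimeCore p D)
  have hUp : IsPGroup p U := Cfsg.Lib.Components.isPGroup_pCore p
  have hHH := centralizer_pCore_quotient (hG.proper D hD)
  have hVD : wcl P ≤ D := fun v hv =>
    Subgroup.mem_centralizer_singleton_iff.2 (hG.wcl_comm P hv ha)
  obtain ⟨R, hR⟩ := ((P.isPGroup'.to_le (inf_le_left : _ ⊓ D ≤ _)).comap_of_injective D.subtype
    D.subtype_injective).exists_le_sylow
  obtain ⟨S, hS⟩ := (R.isPGroup'.map D.subtype).exists_le_sylow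
  obtain ⟨h, rfl⟩ := MulAction.exists_smul_eq G P S
  have hPR : ∀ x (hx : x ∈ (P : Subgroup G)) (hxD : x ∈ D), (⟨x, hxD⟩ : D) ∈ (R : Subgroup D) :=
    fun x hx hxD => hR ⟨hx, hxD⟩
  have hS' : ∀ x ∈ ((h • P : Sylow p G) : Subgroup G), h⁻¹ * x * h ∈ (P : Subgroup G) := by
    intro x hx
    obtain ⟨t, ht, rfl⟩ : ∃ t ∈ (P : Subgroup G), h * t * h⁻¹ = x := hx
    convert ht using 1
    group
  have hVS : ∀ v ∈ wcl P, h⁻¹ * v * h⁻¹⁻¹ ∈ (P : Subgroup G) := fun v hv => by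
    rw [inv_inv]
    exact hS' v (hS ⟨⟨v, hVD hv⟩, hPR v (wcl_le P hv) _, rfl⟩)
  have hhN : h⁻¹ ∈ normalizer (wcl P : Set G) := wcl_mem_normalizer P hVS
  -- `R` normalises `V`
  have hRN : ∀ r ∈ (R : Subgroup D), (r : G) ∈ normalizer (wcl P : Set G) := by
    intro r hr
    have h1 := le_normalizer_wcl P (hS' r (hS ⟨r, hr, rfl⟩))
    have h2 := mul_mem (mul_mem (inv_mem hhN) h1) hhN
    simpa [mul_assoc] using h2
  -- elements of `R` centralising `V` lie in `P`
  set CV := centralizer (wcl P : Set G)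
  have hRP : ∀ r ∈ (R : Subgroup D), (r : G) ∈ CV → (r : G) ∈ (P : Subgroup G) := by
    set A := (R : Subgroup D).map D.subtype ⊓ CV
    have hB : (P : Subgroup G) ⊓ CV ≤ A := fun x hx => by
      have hxD : x ∈ D := Subgroup.mem_centralizer_singleton_iff.2
        (Subgroup.mem_centralizer_iff.1 hx.2 a ha).symm
      exact ⟨⟨⟨x, hxD⟩, hPR x hx.1 hxD, rfl⟩, hx.2⟩
    have hA : A.map (MulAut.conj h⁻¹).toMonoidHom ≤ (P : Subgroup G) ⊓ CV := by
      rintro _ ⟨x, hx, rfl⟩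
      refine ⟨?_, Subgroup.mem_centralizer_iff.2 ?_⟩
      · show h⁻¹ * x * h⁻¹⁻¹ ∈ (P : Subgroup G)
        rw [inv_inv]
        exact hS' x (hS hx.1)
      intro v hv
      have hv' : h * v * h⁻¹ ∈ wcl P := by
        have := (Subgroup.mem_normalizer_iff.1 (inv_mem hhN) v).1 hv
        simpa using this
      have h3 := Subgroup.mem_centralizer_iff.1 hx.2 _ hv'
      show v * (h⁻¹ * x * h⁻¹⁻¹) = h⁻¹ * x * h⁻¹⁻¹ * v
      calc v * (h⁻¹ * x * h⁻¹⁻¹) = h⁻¹ * (h * v * h⁻¹ * x) * h := by group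
        _ = h⁻¹ * (x * (h * v * h⁻¹)) * h := by rw [h3]
        _ = _ := by group
    have hAB : A = (P : Subgroup G) ⊓ CV := (eq_of_le_of_card_ge hB (by
      rw [← card_map_of_injective (K := A) (f := (MulAut.conj h⁻¹).toMonoidHom) (MulAut.conj h⁻¹).injective]
      exact Subgroup.card_le_of_le hA)).symm
    intro r hr hrC
    have : (r : G) ∈ A := ⟨⟨r, hr, rfl⟩, hrC⟩
    rw [hAB] at this
    exact this.1
  set W := (X.subgroupOf D).map π
  have hWc : (Nat.card W).Coprime p := by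
    refine hX.coprime_dvd_left ((card_map_dvd _ _).trans ?_)
    exact (dvd_of_eq (card_map_of_injective D.subtype_injective).symm).trans
      (card_dvd_of_le (Subgroup.map_comap_le _ _))
  have hUR : ∀ c ∈ U, ∃ r ∈ (R : Subgroup D), π r = c := fun c hc =>
    Cfsg.Lib.Coprime.pCore_le_sylow p (R.mapSurjective (QuotientGroup.mk'_surjective _)) hc
  have hUW : ∀ c ∈ U, c ∈ W → c = 1 := fun c h1 h2 => eq_one_of_isPGroup_of_coprime hUp hWc h1 h2
  have hUn : ∀ c ∈ U, ∀ t, t * c * t⁻¹ ∈ U := fun c hc t =>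
    (inferInstance : U.Normal).conj_mem c hc t
  -- (i) the fixed points of `V` on `U` centralise `W`
  have hfix : ∀ c ∈ U, (∀ v (hv : v ∈ wcl P), c * π ⟨v, hVD hv⟩ = π ⟨v, hVD hv⟩ * c) →
      ∀ t ∈ W, c * t = t * c := by
    intro c hc hcv
    obtain ⟨r, hr, rfl⟩ := hUR c hc
    have hrC : (r : G) ∈ CV := by
      rw [Subgroup.mem_centralizer_iff]
      intro v hv
      set vD : D := ⟨v, hVD hv⟩
      have hvR : vD ∈ (R : Subgroup D) := hPR v (wcl_le P hv) _
      have h1 : r * vD * r⁻¹ * vD⁻¹ = 1 := by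
        refine eq_one_of_isPGroup_of_coprime R.isPGroup'
          (Cfsg.Lib.Components.coprime_card_pPrimeCore p)
          (mul_mem (mul_mem (mul_mem hr hvR) (inv_mem hr)) (inv_mem hvR)) ?_
        rw [← QuotientGroup.eq_one_iff]
        show π _ = 1
        rw [map_mul, map_mul, map_mul, map_inv, map_inv, hcv v hv]
        simp [vD, mul_assoc]
      rw [mul_inv_eq_one, mul_inv_eq_iff_eq_mul] at h1
      exact (congrArg Subtype.val h1).symm
    rintro _ ⟨t, ht, rfl⟩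
    have h1 : π r * π t * (π r)⁻¹ * (π t)⁻¹ = 1 := by
      refine hUW _ ?_ ?_
      · have := U.mul_mem hc (hUn _ (U.inv_mem hc) (π t))
        simpa [mul_assoc] using this
      · refine mul_mem ⟨r * t * r⁻¹, ?_, by simp⟩ (inv_mem ⟨t, ht, rfl⟩)
        exact (Subgroup.mem_normalizer_iff.1 (hPX (hRP r hr hrC)) t).1 ht
    rw [mul_inv_eq_one, mul_inv_eq_iff_eq_mul] at h1
    exact h1
  -- (ii) commutators of `V` with `U` are fixed by `V`
  have hcomm : ∀ v (hv : v ∈ wcl P), ∀ u ∈ U, ∀ v' (hv' : v' ∈ wcl P),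
      π ⟨v, hVD hv⟩ * u * (π ⟨v, hVD hv⟩)⁻¹ * u⁻¹ * π ⟨v', hVD hv'⟩ =
        π ⟨v', hVD hv'⟩ * (π ⟨v, hVD hv⟩ * u * (π ⟨v, hVD hv⟩)⁻¹ * u⁻¹) := by
    intro v hv u hu v' hv'
    obtain ⟨r, hr, rfl⟩ := hUR u hu
    have hmem : v * r * v⁻¹ * (r : G)⁻¹ ∈ wcl P := by
      have := mul_mem hv ((Subgroup.mem_normalizer_iff.1 (hRN r hr) v⁻¹).1 (inv_mem hv))
      simpa [mul_assoc] using this
    simp only [← map_mul, ← map_inv]
    exact congrArg π (Subtype.ext (hG.wcl_comm P hmem hv'))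
  -- (iii) `W` centralises `V`
  have hwW : π ⟨w, hwa⟩ ∈ W := ⟨⟨w, hwa⟩, hw, rfl⟩
  have hwv : ∀ v (hv : v ∈ wcl P),
      π ⟨w, hwa⟩ * π ⟨v, hVD hv⟩ = π ⟨v, hVD hv⟩ * π ⟨w, hwa⟩ := by
    intro v hv
    set b := π ⟨v, hVD hv⟩
    set e := π ⟨w, hwa⟩
    have hbe : b * e * b⁻¹ ∈ W :=
      ⟨⟨v, hVD hv⟩ * ⟨w, hwa⟩ * ⟨v, hVD hv⟩⁻¹,
        (Subgroup.mem_normalizer_iff.1 (hPX (wcl_le P hv)) w).1 hw, by simp only [map_mul, map_inv, b, e]⟩
    set t := b * e * b⁻¹ * e⁻¹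
    have htW : t ∈ W := mul_mem hbe (inv_mem hwW)
    have hcen : ∀ u' ∈ U, t * u' * t⁻¹ = u' := by
      intro u' hu'
      set u₀ := e⁻¹ * u' * e
      have hu : u₀ ∈ U := by simpa [u₀] using hUn u' hu' e⁻¹
      set c := b * u₀ * b⁻¹ * u₀⁻¹ with hc
      set c' := b * u' * b⁻¹ * u'⁻¹ with hc'
      have hcU : c ∈ U := mul_mem (hUn _ hu b) (inv_mem hu)
      have hc'U : c' ∈ U := mul_mem (hUn _ hu' b) (inv_mem hu')
      have hcW := hfix c hcU fun v' hv' => hcomm v hv u₀ hu v' hv'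
      have hc'W := hfix c' hc'U fun v' hv' => hcomm v hv u' hu' v' hv'
      have h1 : t * u' * t⁻¹ = c⁻¹ * c' * u' := by
        have h2 : b * u' * b⁻¹ = c * (t * u' * t⁻¹) := by
          calc b * u' * b⁻¹ = (b * e * b⁻¹) * (b * u₀ * b⁻¹) * (b * e * b⁻¹)⁻¹ := by
                simp only [u₀]; group
            _ = ((b * e * b⁻¹) * c) * u₀ * (b * e * b⁻¹)⁻¹ := by simp only [c]; group
            _ = (c * (b * e * b⁻¹)) * u₀ * (b * e * b⁻¹)⁻¹ := by rw [hcW _ hbe]
            _ = c * (t * u' * t⁻¹) := by simp only [t, u₀]; group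
        have h3 : b * u' * b⁻¹ = c' * u' := by simp [c']
        rw [mul_assoc c⁻¹, ← h3, h2, inv_mul_cancel_left]
      have hd := eq_one_of_translate hUp hWc htW (mul_mem (inv_mem hcU) hc'U) h1
        ((Commute.inv_right (hcW t htW).symm).mul_right (hc'W t htW).symm)
      rw [h1, hd, one_mul]
    have ht1 : t = 1 := by
      refine hUW t (hHH ?_) htW
      rw [Subgroup.mem_centralizer_iff]
      exact fun u hu => (mul_inv_eq_iff_eq_mul.1 (hcen u hu)).symm
    rw [mul_inv_eq_one, mul_inv_eq_iff_eq_mul] at ht1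
    exact ht1.symm
  -- (iv) `W` centralises `U`
  rw [← QuotientGroup.eq_one_iff]
  refine hUW _ (hHH ?_) hwW
  rw [Subgroup.mem_centralizer_iff]
  intro u hu
  set e := π ⟨w, hwa⟩
  set d := u⁻¹ * (e * u * e⁻¹) with hd
  have hdU : d ∈ U := mul_mem (inv_mem hu) (hUn u hu e)
  have hdv : ∀ v (hv : v ∈ wcl P), d * π ⟨v, hVD hv⟩ = π ⟨v, hVD hv⟩ * d := by
    intro v hv
    set b := π ⟨v, hVD hv⟩
    set c := b * u * b⁻¹ * u⁻¹
    have hce := hfix c (mul_mem (hUn u hu b) (inv_mem hu))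
      (fun v' hv' => hcomm v hv u hu v' hv') e hwW
    have h1 : b * (e * u * e⁻¹) * b⁻¹ = c * (e * u * e⁻¹) := by
      calc b * (e * u * e⁻¹) * b⁻¹ = (b * e) * u * (b * e)⁻¹ := by group
        _ = (e * b) * u * (e * b)⁻¹ := by rw [hwv v hv]
        _ = (e * c) * u * e⁻¹ := by simp only [c]; group
        _ = (c * e) * u * e⁻¹ := by rw [hce]
        _ = _ := by group
    have h2 : b * d * b⁻¹ = d := by
      calc b * d * b⁻¹ = (b * u * b⁻¹)⁻¹ * (b * (e * u * e⁻¹) * b⁻¹) := by simp only [d]; group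
        _ = (c * u)⁻¹ * (c * (e * u * e⁻¹)) := by rw [h1]; simp only [c]; group
        _ = d := by simp only [d]; group
    exact (mul_inv_eq_iff_eq_mul.1 h2).symm
  have hde := hfix d hdU hdv e hwW
  have h3 : e * u * e⁻¹ = u * d := by simp [d]
  have hd1 : d = 1 := by
    have h4 : e * u⁻¹ * e⁻¹ = d⁻¹ * u⁻¹ := by
      rw [show e * u⁻¹ * e⁻¹ = (e * u * e⁻¹)⁻¹ by group, h3, mul_inv_rev]
    exact inv_eq_one.1 (eq_one_of_translate hUp hWc hwW (inv_mem hdU) h4 (Commute.inv_right hde.symm))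
  rw [hd1, mul_one, mul_inv_eq_iff_eq_mul] at h3
  exact h3.symm

omit hG

/-- In the coset of an invariant `p'`-subgroup at a `p`-element everything is conjugate to a
commuting product. -/
theorem exists_conj_cent {X : Subgroup G} (hX : (Nat.card X).Coprime p) {a : G}
    (ha : IsPGroup p (zpowers a)) (hn : a ∈ normalizer (X : Set G)) {k : G} (hk : k ∈ X) :
    ∃ x ∈ X, ∃ u ∈ X, Commute a u ∧ x * (a * u) * x⁻¹ = a * k := by
  have hn' : zpowers a ≤ normalizer (X : Set G) := zpowers_le.2 hn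
  obtain ⟨s, y, hsy, hc, ⟨j, hj⟩, hy⟩ := Cfsg.Lib.Blocks.exists_isPPart' hp.out (a * k)
  obtain ⟨i, hi⟩ := Cfsg.Lib.Blocks.exists_isPPart hp.out (a * k)
  have hs : s = (a * k) ^ i :=
    Cfsg.Lib.Blocks.IsPPart.eq hp.out ⟨y, hsy, hc, ⟨j, hj⟩, hy⟩ hi
  have hsL : zpowers s ≤ X ⊔ zpowers a := by
    rw [zpowers_le, hs]
    exact pow_mem (mul_mem (mem_sup_right (mem_zpowers a)) (mem_sup_left hk)) i
  obtain ⟨x, hx, hxs⟩ := exists_conj_le hX ha hn'
    (IsPGroup.of_card (n := j) (by rw [Nat.card_zpowers, hj])) hsL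
  set b := x⁻¹ * s * x with hb
  have hbz : b ∈ zpowers a := hxs s (mem_zpowers s)
  set y' := x⁻¹ * y * x with hy'
  set k' := a⁻¹ * x⁻¹ * a * (k * x) with hk'
  have hk'X : k' ∈ X := by
    refine mul_mem ?_ (mul_mem hk hx)
    simpa [mul_assoc] using (Subgroup.mem_normalizer_iff.1 (inv_mem hn) x⁻¹).1 (inv_mem hx)
  have hby : b * y' = a * k' := by
    calc b * y' = x⁻¹ * (s * y) * x := by simp only [b, y']; group
      _ = x⁻¹ * (a * k) * x := by rw [hsy]
      _ = a * k' := by simp only [k']; group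
  set c := b⁻¹ * a
  have hcz : c ∈ zpowers a := mul_mem (inv_mem hbz) (mem_zpowers a)
  have hyc : y' = c * k' := by rw [mul_assoc, ← hby, inv_mul_cancel_left]
  have hcn : ∀ n : ℕ, ∃ l ∈ X, (c * k') ^ n = c ^ n * l := by
    intro n
    induction n with
    | zero => exact ⟨1, one_mem _, by simp⟩
    | succ n ih =>
      obtain ⟨l, hl, he⟩ := ih
      refine ⟨c⁻¹ * l * c * k', mul_mem ?_ hk'X, ?_⟩
      · simpa using (Subgroup.mem_normalizer_iff.1 (inv_mem (hn' hcz)) l).1 hl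
      · rw [pow_succ, he, pow_succ]; group
  obtain ⟨l, hl, he⟩ := hcn (orderOf y)
  have hy1 : y' ^ orderOf y = 1 := by
    rw [hy', show x⁻¹ * y * x = x⁻¹ * y * x⁻¹⁻¹ by rw [inv_inv], conj_pow, pow_orderOf_eq_one]
    group
  rw [← hyc, hy1] at he
  have hcX : c ^ orderOf y ∈ X := by rw [eq_inv_of_mul_eq_one_left he.symm]; exact inv_mem hl
  have h1 : c ^ orderOf y = 1 := eq_one_of_isPGroup_of_coprime ha hX (pow_mem hcz _) hcX
  have hc1 : c = 1 := by
    obtain ⟨e, he'⟩ := IsPGroup.iff_orderOf.1 ha ⟨c, hcz⟩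
    rw [Subgroup.orderOf_mk] at he'
    rw [← orderOf_eq_one_iff]
    exact Nat.eq_one_of_dvd_coprimes
      (((hp.out.coprime_iff_not_dvd).2 hy).symm.pow_right e)
      (orderOf_dvd_of_pow_eq_one h1) he'.dvd
  have hba : b = a := inv_mul_eq_one.1 hc1
  refine ⟨x, hx, k', hk'X, ?_, ?_⟩
  · have h2 : Commute b y' := by
      have := hc.map (MulAut.conj x⁻¹).toMonoidHom
      simpa [b, y'] using this
    rw [hba, hyc, hc1, one_mul] at h2
    exact h2
  · simp only [k']; group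

end Cfsg.Lib.PairSylow
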