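import Cfsg.Agent.Components.Cores
import Cfsg.Agent.Components.Signalizer.Sft.Tools
import Cfsg.Agent.Components.CyclicPair.Reduction
import Cfsg.Agent.PLocal.StableClosureApps
import Cfsg.Agent.GaschutzYen.Basic
import Cfsg.Agent.SolvStruct.CoprimeOrbits
import Cfsg.Agent.Blocks.ItoDegrees
import Mathlib

/-!
Pairs of Sylow subgroups and `p`-solvability: generalities.
-/

set_option autoImplicit false
set_option linter.unusedSectionVars false

namespace Cfsg.Lib.PairSylow

open Subgroup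

universe u

variable {G : Type u} [Group G] [Finite G] {p : ℕ} [hp : Fact p.Prime]

theorem isPSolvable_of_le {H K : Subgroup G} (h : H ≤ K) (hK : Cfsg.IsPSolvable p K) :
    Cfsg.IsPSolvable p H :=
  Cfsg.Lib.CyclicPair.isPSolvable_of_iso (Subgroup.subgroupOfEquivOfLe h)
    (Cfsg.Lib.SolvStruct.CoprimeOrbits.isPSolvable_subgroup hK hp.out (H.subgroupOf K))

/-- An extension of `p`-solvable groups is `p`-solvable. -/
theorem isPSolvable_of_normal_quotient (N : Subgroup G) [N.Normal] (hN : Cfsg.IsPSolvable p N)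
    (hQ : Cfsg.IsPSolvable p (G ⧸ N)) : Cfsg.IsPSolvable p G := by
  obtain ⟨n, hn⟩ : ∃ n, Nat.card N = n := ⟨_, rfl⟩
  induction n using Nat.strong_induction_on generalizing G with
  | _ n ih =>
  subst hn
  rcases eq_or_ne N ⊥ with rfl | hne
  · exact Cfsg.Lib.CyclicPair.isPSolvable_of_iso QuotientGroup.quotientBot hQ
  haveI : Nontrivial N := (Subgroup.nontrivial_iff_ne_bot N).2 hne
  obtain ⟨C, hCc, hC0, hCcard⟩ : ∃ C : Subgroup N, C.Characteristic ∧ C ≠ ⊥ ∧
      ((∃ m, Nat.card C = p ^ m) ∨ (Nat.card C).Coprime p) := by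
    rcases Cfsg.Lib.GaschutzYen.exists_core_ne_bot hN with h | h
    · exact ⟨_, inferInstance, h,
        Or.inl (IsPGroup.iff_card.1 (Cfsg.Lib.Components.isPGroup_pCore p))⟩
    · exact ⟨_, inferInstance, h, Or.inr (Cfsg.Lib.Components.coprime_card_pPrimeCore p)⟩
  haveI := hCc
  set K : Subgroup G := C.map N.subtype with hK
  haveI hKn : K.Normal := inferInstance
  have hKN : K ≤ N := map_subtype_le _
  have hKcard : Nat.card K = Nat.card C := card_map_of_injective N.subtype_injective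
  refine Cfsg.Lib.Blocks.isPSolvable_extend K (hKcard ▸ hCcard) ?_
  let π := QuotientGroup.mk' K
  haveI : (N.map π).Normal := Subgroup.Normal.map inferInstance π (QuotientGroup.mk'_surjective K)
  refine ih (Nat.card (N.map π)) ?_ (N.map π)
    (Cfsg.Lib.Constraint.isPSolvable_of_surjective (π.subgroupMap_surjective N) hN)
    (Cfsg.Lib.CyclicPair.isPSolvable_of_iso (QuotientGroup.quotientQuotientEquivQuotient K N hKN).symm hQ)
    rfl
  have h1 : Nat.card (N.map π) * Nat.card K = Nat.card N := by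
    rw [← Subgroup.relIndex_bot_left, ← Subgroup.relIndex_bot_left (H := K)]
    have h := Subgroup.relIndex_mul_relIndex (⊥ : Subgroup G) K N bot_le hKN
    rw [← Subgroup.relIndex_bot_left (H := N), ← h]
    have h2 : (⊥ : Subgroup (G ⧸ K)).relIndex (N.map π) = K.relIndex N := by
      rw [← Subgroup.relIndex_comap, MonoidHom.comap_bot, QuotientGroup.ker_mk']
    rw [h2, mul_comm]
  have h2 : 1 < Nat.card K := by
    rw [hKcard]; exact (Subgroup.one_lt_card_iff_ne_bot C).2 hC0
  have h3 : 0 < Nat.card (N.map π) := Nat.card_pos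
  rw [← h1]
  exact lt_mul_of_one_lt_right h3 h2

/-- Every two Sylow subgroups generate a `p`-solvable subgroup. -/
def Hyp (p : ℕ) (G : Type u) [Group G] : Prop :=
  ∀ S T : Sylow p G, Cfsg.IsPSolvable p ↥((S : Subgroup G) ⊔ (T : Subgroup G))

theorem Hyp.subgroup (h : Hyp p G) (H : Subgroup G) : Hyp p H := by
  intro S T
  obtain ⟨S', hS'⟩ := (S.isPGroup'.map H.subtype).exists_le_sylow
  obtain ⟨T', hT'⟩ := (T.isPGroup'.map H.subtype).exists_le_sylow
  have hle : ((S : Subgroup H) ⊔ (T : Subgroup H)).map H.subtype ≤ (S' : Subgroup G) ⊔ T' := by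
    rw [Subgroup.map_sup]; exact sup_le_sup hS' hT'
  exact Cfsg.Lib.CyclicPair.isPSolvable_of_iso
    (Subgroup.equivMapOfInjective _ H.subtype H.subtype_injective).symm
    (isPSolvable_of_le hle (h S' T'))

theorem Hyp.quotient (h : Hyp p G) (N : Subgroup G) [N.Normal] : Hyp p (G ⧸ N) := by
  intro S T
  have hπ : Function.Surjective (QuotientGroup.mk' N) := QuotientGroup.mk'_surjective N
  obtain ⟨S', rfl⟩ := Sylow.mapSurjective_surjective hπ p S
  obtain ⟨T', rfl⟩ := Sylow.mapSurjective_surjective hπ p T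
  rw [Sylow.coe_mapSurjective, Sylow.coe_mapSurjective, ← Subgroup.map_sup]
  exact Cfsg.Lib.Constraint.isPSolvable_of_surjective
    ((QuotientGroup.mk' N).subgroupMap_surjective _) (h S' T')

/-- The hypothesis of the statement gives the symmetric one. -/
theorem hyp_of_pair (P : Sylow p G) (h : ∀ g : G, Cfsg.IsPSolvable p
    ↥((P : Subgroup G) ⊔ (P : Subgroup G).map (MulAut.conj g).toMonoidHom)) : Hyp p G := by
  intro S T
  obtain ⟨a, rfl⟩ := MulAction.exists_smul_eq G P S
  obtain ⟨b, rfl⟩ := MulAction.exists_smul_eq G P T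
  have hc : ∀ c : G, ((c • P : Sylow p G) : Subgroup G) =
      (P : Subgroup G).map (MulAut.conj c).toMonoidHom := fun c => rfl
  have he : ((a • P : Sylow p G) : Subgroup G) ⊔ ((b • P : Sylow p G) : Subgroup G) =
      ((P : Subgroup G) ⊔ (P : Subgroup G).map (MulAut.conj (a⁻¹ * b)).toMonoidHom).map
        (MulAut.conj a).toMonoidHom := by
    rw [Subgroup.map_sup, Subgroup.map_map, hc, hc]
    congr 2
    ext x
    simp [mul_assoc]
  rw [he]
  exact Cfsg.Lib.CyclicPair.isPSolvable_of_iso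
    (Subgroup.equivMapOfInjective _ _ (MulAut.conj a).injective) (h _)

/-- The situation of a minimal counterexample. -/
structure Ctx (p : ℕ) (G : Type u) [Group G] : Prop where
  simple : ∀ N : Subgroup G, N.Normal → N = ⊥ ∨ N = ⊤
  notSolv : ¬ Cfsg.IsPSolvable p G
  proper : ∀ H : Subgroup G, H ≠ ⊤ → Cfsg.IsPSolvable p H
  pair : ∀ S T : Sylow p G, (S : Subgroup G) ⊔ (T : Subgroup G) ≠ ⊤

theorem isPSolvable_of_top {h : Cfsg.IsPSolvable p (⊤ : Subgroup G)} : Cfsg.IsPSolvable p G :=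
  Cfsg.Lib.CyclicPair.isPSolvable_of_iso Subgroup.topEquiv h

/-- The reduction to a minimal counterexample. -/
theorem isPSolvable_of_hyp (main : ∀ (X : Type u) [Group X] [Finite X], Ctx p X → False) :
    ∀ (G : Type u) [Group G] [Finite G], Hyp p G → Cfsg.IsPSolvable p G := by
  intro G _ _ h
  obtain ⟨n, hn⟩ : ∃ n, Nat.card G = n := ⟨_, rfl⟩
  induction n using Nat.strong_induction_on generalizing G with
  | _ n ih =>
  subst hn
  have hproper : ∀ H : Subgroup G, H ≠ ⊤ → Cfsg.IsPSolvable p H := fun H hH =>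
    ih _ (lt_of_le_of_ne (Nat.le_of_dvd Nat.card_pos H.card_subgroup_dvd_card)
      fun e => hH (Subgroup.eq_top_of_card_eq H e)) H (h.subgroup H) rfl
  by_contra hns
  refine main G ⟨fun N hN => ?_, hns, hproper, fun S T hST => hns ?_⟩
  · by_contra! hc
    haveI := hN
    refine hns (isPSolvable_of_normal_quotient N (hproper N hc.2) (ih _ ?_ _ (h.quotient N) rfl))
    rw [← Subgroup.index_eq_card, ← Subgroup.index_mul_card N]
    exact lt_mul_of_one_lt_right (Nat.pos_of_ne_zero Subgroup.index_ne_zero_of_finite)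
      ((Subgroup.one_lt_card_iff_ne_bot N).2 hc.1)
  · exact isPSolvable_of_top (h := hST ▸ h S T)

/-- In a finite group with a normal subgroup `O` of order prime to `p` a `p`-subgroup meets `O`
trivially. -/
theorem eq_one_of_isPGroup_of_coprime {R : Subgroup G} (hR : IsPGroup p R) {O : Subgroup G}
    (hO : (Nat.card O).Coprime p) {x : G} (hx : x ∈ R) (hx' : x ∈ O) : x = 1 := by
  obtain ⟨k, hk⟩ := IsPGroup.iff_card.1 hR
  exact Cfsg.Lib.Coprime.eq_one_of_coprime (hk ▸ (hO.pow_right k)) hx' hx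

/-- A `p`-subgroup of `K ⋊ Q` lies in a conjugate of `Q` under `K`. -/
theorem exists_conj_le {K Q T : Subgroup G} (hK : (Nat.card K).Coprime p) (hQ : IsPGroup p Q)
    (hn : Q ≤ normalizer (K : Set G)) (hT : IsPGroup p T) (hTL : T ≤ K ⊔ Q) :
    ∃ k ∈ K, ∀ x ∈ T, k⁻¹ * x * k ∈ Q := by
  set L := K ⊔ Q with hL
  have hcard : Nat.card L = Nat.card K * Nat.card Q := by
    obtain ⟨e, he⟩ := IsPGroup.iff_card.1 hQ
    exact Cfsg.Lib.Coprime.card_sup_coprime hn (he ▸ hK.pow_right e)
  have hQ' : IsPGroup p (Q.subgroupOf L) := hQ.comap_of_injective L.subtype L.subtype_injective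
  have hidx : ¬ p ∣ (Q.subgroupOf L).index := by
    have h1 : (Q.subgroupOf L).index * Nat.card Q = Nat.card L := by
      rw [← Nat.card_congr (Subgroup.subgroupOfEquivOfLe (le_sup_right : Q ≤ L)).toEquiv,
        Subgroup.index_mul_card]
    rw [hcard] at h1
    rw [Nat.eq_of_mul_eq_mul_right Nat.card_pos h1]
    exact hp.out.coprime_iff_not_dvd.1 hK.symm
  have hT' : IsPGroup p (T.subgroupOf L) := hT.comap_of_injective L.subtype L.subtype_injective
  obtain ⟨S, hS⟩ := hT'.exists_le_sylow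
  obtain ⟨l, hl⟩ := MulAction.exists_smul_eq L S (hQ'.toSylow hidx)
  obtain ⟨k, hk, q, hq, hkq⟩ := (Cfsg.Lib.Coprime.mem_sup_of_le_normalizer hn).1 (inv_mem l.2)
  refine ⟨k, hk, fun x hx => ?_⟩
  have h1 : l * (⟨x, hTL hx⟩ : L) * l⁻¹ ∈ Q.subgroupOf L := by
    have : l * (⟨x, hTL hx⟩ : L) * l⁻¹ ∈ ((l • S : Sylow p L) : Subgroup L) :=
      Subgroup.smul_mem_pointwise_smul (⟨x, hTL hx⟩ : L) (MulAut.conj l) _ (hS hx)
    rw [hl] at this
    exact this
  have h2 : (l : G) * x * (l : G)⁻¹ ∈ Q := h1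
  have h3 := Q.mul_mem (Q.mul_mem hq h2) (Q.inv_mem hq)
  have hle : (l : G) = (k * q)⁻¹ := by rw [hkq, inv_inv]
  rw [hle] at h3
  simpa [mul_assoc] using h3

theorem iterate_conj {H : Type*} [Group H] {t u d : H} (h : t * u * t⁻¹ = d * u)
    (hc : Commute t d) (n : ℕ) : t ^ n * u * (t ^ n)⁻¹ = d ^ n * u := by
  induction n with
  | zero => simp
  | succ n ih =>
    calc t ^ (n + 1) * u * (t ^ (n + 1))⁻¹ = t * (t ^ n * u * (t ^ n)⁻¹) * t⁻¹ := by
          rw [pow_succ']; group
      _ = (t * d ^ n * t⁻¹) * (t * u * t⁻¹) := by rw [ih]; group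
      _ = d ^ (n + 1) * u := by
          rw [(hc.pow_right n).eq, mul_inv_cancel_right, h, pow_succ, mul_assoc]

/-- A `p'`-element fixing the translation part acts trivially. -/
theorem eq_one_of_translate {H : Type*} [Group H] [Finite H] {U W : Subgroup H} (hU : IsPGroup p U)
    (hW : (Nat.card W).Coprime p) {t u d : H} (ht : t ∈ W) (hd : d ∈ U)
    (h : t * u * t⁻¹ = d * u) (hc : Commute t d) : d = 1 := by
  have h1 := iterate_conj h hc (orderOf t)
  rw [pow_orderOf_eq_one, inv_one, mul_one, one_mul, eq_comm, mul_eq_right] at h1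
  obtain ⟨k, hk⟩ := IsPGroup.iff_orderOf.1 hU ⟨d, hd⟩
  rw [Subgroup.orderOf_mk] at hk
  rw [← orderOf_eq_one_iff]
  exact Nat.eq_one_of_dvd_coprimes
    ((hW.coprime_dvd_left (W.orderOf_dvd_natCard ht)).pow_right k)
    (orderOf_dvd_of_pow_eq_one h1) hk.dvd

end Cfsg.Lib.PairSylow
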