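import Cfsg.Agent.PairSylow.Local
import Cfsg.Agent.Blocks.Isometry
import Cfsg.Agent.Blocks.PrincipalSolvable
import Cfsg.Agent.Chars.Sums
import Cfsg.Agent.InvolCalc.ZStarApps

/-!
The principal block on the weakly closed subgroup, and the common fixed vector.
-/

set_option autoImplicit false
set_option linter.unusedSectionVars false
set_option linter.style.haveILetI false

namespace Cfsg.Lib.PairSylow

open Subgroup Cfsg.Lib.Sft Cfsg.Lib.Blocks Cfsg.Lib.Chars
open scoped ComplexConjugate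

universe u

variable {G : Type u} [Group G] [Fintype G] {p : ℕ} [hp : Fact p.Prime]

open scoped _root_.Classical in
/-- The nontrivial elements of the weakly closed subgroup. -/
noncomputable def vs (P : Sylow p G) : Finset G :=
  Finset.univ.filter fun a => a ∈ wcl P ∧ a ≠ 1

theorem mem_vs {P : Sylow p G} {a : G} : a ∈ vs P ↔ a ∈ wcl P ∧ a ≠ 1 := by
  classical
  simp [vs]

theorem card_vs (P : Sylow p G) : (vs P).card + 1 = Nat.card (wcl P) := by
  classical
  rw [Nat.card_eq_fintype_card, Fintype.card_subtype]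
  rw [show vs P = (Finset.univ.filter fun a => a ∈ wcl P).erase 1 from by
    ext a; simp [mem_vs, and_comm]]
  rw [Finset.card_erase_of_mem (by simp [one_mem]),
    Nat.sub_add_cancel (Finset.card_pos.2 ⟨1, by simp [one_mem]⟩)]

theorem orderOf_vs {P : Sylow p G} {a : G} (ha : a ∈ wcl P) : ∃ k : ℕ, orderOf a = p ^ k := by
  obtain ⟨k, hk⟩ := IsPGroup.iff_orderOf.1 (wcl_isPGroup P) ⟨a, ha⟩
  exact ⟨k, by rwa [Subgroup.orderOf_mk] at hk⟩

theorem dvd_orderOf_vs {P : Sylow p G} {a : G} (ha : a ∈ vs P) : p ∣ orderOf a := by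
  obtain ⟨k, hk⟩ := orderOf_vs (mem_vs.1 ha).1
  rw [hk]
  refine dvd_pow_self p fun h0 => (mem_vs.1 ha).2 ?_
  rw [← orderOf_eq_one_iff, hk, h0, pow_zero]

theorem not_dvd_orderOf {X : Subgroup G} (hX : (Nat.card X).Coprime p) {x : G} (hx : x ∈ X) :
    ¬ p ∣ orderOf x := fun h =>
  (hp.out.coprime_iff_not_dvd.1 hX.symm) (h.trans (X.orderOf_dvd_natCard hx))

/-- The principal block is constant on `a O_{p'}(C(a))`. -/
theorem apply_mul_centCore {M : Ideal AlgInt} (hM : IsPModular p M) {a u : G}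
    (hx : ∃ k : ℕ, orderOf a = p ^ k) (hu : u ∈ centralizer ({a} : Set G))
    (ho : ⟨u, hu⟩ ∈ pPrimeCore p (centralizer ({a} : Set G)))
    {χ : IrrCharacter G} (hχ : χ ∈ principalBlock M G) :
    (χ : G → ℂ) (a * u) = (χ : G → ℂ) a := by
  classical
  set H := centralizer ({a} : Set G) with hH
  letI := Fintype.ofFinite H
  have hH' : H = centralizer (zpowers a : Set G) := (centralizer_zpowers a).symm
  have hB : IsPBlock M (principalBlock M G) := isPBlock_blockOf (principal G)
  have hcop := Cfsg.Lib.Components.coprime_card_pPrimeCore (G := H) p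
  have hK : ¬ p ∣ Nat.card (pPrimeCore p H) := hp.out.coprime_iff_not_dvd.1 hcop.symm
  have hup : ¬ p ∣ orderOf (⟨u, hu⟩ : H) := not_dvd_orderOf hcop ho
  have h1 : ¬ p ∣ orderOf (1 : H) := by rw [orderOf_one]; exact hp.out.not_dvd_one
  have e : ∀ y : H, ¬ p ∣ orderOf y → (χ : G → ℂ) (a * (y : G)) =
      blockPart (principalBlock M H) (fun c : H => (χ : G → ℂ) (a * (c : G))) y := fun y hy => by
    rw [apply_mul_eq_sum_blockPart hM hx hH' hB hχ hy, filter_induced_principal hM hx hH',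
      Finset.sum_singleton]
  show (χ : G → ℂ) (a * ((⟨u, hu⟩ : H) : G)) = _
  conv_rhs => rw [← mul_one a, ← OneMemClass.coe_one H, e 1 h1]
  rw [e _ hup, blockPart_eq_sum, blockPart_eq_sum]
  refine Finset.sum_congr rfl fun ψ hψ => ?_
  rw [apply_eq_of_mem_normal_pPrime hM (pPrimeCore p H) hK (Finset.mem_filter.1 hψ).2 ho]

/-- The sum of an irreducible character over the products with a class. -/
theorem sum_conj_mul {χ : G → ℂ} (hχ : Cfsg.IsIrrCharacter G χ) (a b : G) :
    ∑ g : G, χ (b * (g * a * g⁻¹)) = (Nat.card G : ℂ) * χ a * χ b / χ 1 := by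
  classical
  obtain ⟨n, ρ, hρ, rfl⟩ := hχ
  haveI := hρ
  have hcl : Cfsg.IsClassFunction G ρ.character := isClassFunction_character ρ
  let f : G → ℂ := fun x => ∑ g : G, if g * a * g⁻¹ = x then 1 else 0
  have hf : Cfsg.IsClassFunction G f := by
    intro x h
    show (∑ g : G, if g * a * g⁻¹ = h * x * h⁻¹ then (1 : ℂ) else 0) =
      ∑ g : G, if g * a * g⁻¹ = x then (1 : ℂ) else 0
    rw [← Equiv.sum_comp (Equiv.mulLeft h)]
    refine Finset.sum_congr rfl fun g _ => if_congr ?_ rfl rfl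
    rw [Equiv.coe_mulLeft]
    constructor
    swap
    · rintro rfl; group
    · intro e
      have e2 := congrArg (fun y => h⁻¹ * y * h) e
      simpa [mul_assoc] using e2
  have hsum : ∀ w : G, ∑ x, f x * ρ.character (x * w) = ∑ g, ρ.character (g * a * g⁻¹ * w) := by
    intro w
    simp only [f, Finset.sum_mul, ite_mul, one_mul, zero_mul]
    rw [Finset.sum_comm]
    simp
  have h := sum_smul_rep_trace ρ hf b
  have h1 := hsum 1
  simp only [mul_one, hcl a, Finset.sum_const, Finset.card_univ, nsmul_eq_mul] at h1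
  rw [hsum b, h1, ← Nat.card_eq_fintype_card] at h
  rw [ρ.char_one, div_mul_eq_mul_div] at *
  rw [← h]
  exact Finset.sum_congr rfl fun g _ => by
    rw [← hcl (b * (g * a * g⁻¹)) (g * a * g⁻¹)]
    congr 1
    group

variable (P : Sylow p G)

/-- The sum over the nontrivial elements. -/
noncomputable def nC (χ : IrrCharacter G) : ℂ := ∑ a ∈ vs P, (χ : G → ℂ) a

/-- Its real part. -/
noncomputable def nR (χ : IrrCharacter G) : ℝ := (nC P χ).re

theorem conj_nC (χ : IrrCharacter G) : conj (nC P χ) = nC P χ := by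
  rw [nC, map_sum]
  refine Finset.sum_equiv (Equiv.inv G) (fun a => ?_) fun a _ => ?_
  · simp [mem_vs]
  · exact (IsCharacter.conj_inv (isCharacter_of_irr χ.2) a).symm

theorem nC_eq (χ : IrrCharacter G) : nC P χ = (nR P χ : ℂ) :=
  (Complex.conj_eq_iff_re.1 (conj_nC P χ)).symm

variable (hG : Ctx p G)
include hG

theorem Ctx.apply_mul {M : Ideal AlgInt} (hM : IsPModular p M) {χ : IrrCharacter G}
    (hχ : χ ∈ principalBlock M G) {X : Subgroup G} (hX : (Nat.card X).Coprime p)
    (hPX : (P : Subgroup G) ≤ normalizer (X : Set G)) {a k : G} (ha : a ∈ vs P) (hk : k ∈ X) :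
    (χ : G → ℂ) (a * k) = (χ : G → ℂ) a := by
  obtain ⟨haV, ha1⟩ := mem_vs.1 ha
  have hz : IsPGroup p (zpowers a) := (wcl_isPGroup P).to_le (zpowers_le.2 haV)
  obtain ⟨x, -, u, hu, hau, he⟩ := exists_conj_cent hX hz (hPX (wcl_le P haV)) hk
  have huc : u ∈ centralizer ({a} : Set G) := Subgroup.mem_centralizer_singleton_iff.2 hau.symm.eq
  rw [← he, isClassFunction_irr χ,
    apply_mul_centCore hM (orderOf_vs haV) huc (hG.key P hX hPX haV ha1 hu huc) hχ]

/-- For each `g` the products are, up to regular elements, products inside the subgroup. -/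
theorem Ctx.exists_regular (g : G) : ∃ r : G → G, (∀ a ∈ vs P, ¬ p ∣ orderOf (r a)) ∧
    ∀ {M : Ideal AlgInt}, IsPModular p M → ∀ {χ : IrrCharacter G}, χ ∈ principalBlock M G →
      ∑ a ∈ vs P, ∑ b ∈ vs P, (χ : G → ℂ) (b * (g * a * g⁻¹)) =
        ((vs P).card : ℂ) * nC P χ - nC P χ + ∑ a ∈ vs P, (χ : G → ℂ) (r a) := by
  classical
  obtain ⟨k, Θ, hn, hk, hΘ, hPΘ, -⟩ := hG.exists_theta P g
  set n := k⁻¹ * g with hndef
  set a' : G → G := fun a => n * a * n⁻¹ with ha'
  have hmem : ∀ a, a' a ∈ vs P ↔ a ∈ vs P := fun a => by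
    simp only [mem_vs, ha', ne_eq, conj_eq_one_iff]
    rw [← Subgroup.mem_normalizer_iff.1 hn a]
  set r : G → G := fun a => (a' a)⁻¹ * k * a' a * k⁻¹ with hr
  have hrΘ : ∀ a ∈ vs P, r a ∈ Θ := by
    intro a ha
    refine mul_mem ?_ (inv_mem hk)
    have h := (Subgroup.mem_normalizer_iff.1
      (inv_mem (hPΘ (wcl_le P (mem_vs.1 ((hmem a).2 ha)).1))) k).1 hk
    simpa using h
  refine ⟨r, fun a ha => not_dvd_orderOf hΘ (hrΘ a ha), fun {M} hM {χ} hχ => ?_⟩
  have hstep : ∀ a ∈ vs P, ∑ b ∈ vs P, (χ : G → ℂ) (b * (g * a * g⁻¹)) =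
      nC P χ - (χ : G → ℂ) (a' a) + (χ : G → ℂ) (r a) := by
    intro a ha
    have hc := (hmem a).2 ha
    have he : ∀ b, b * (g * a * g⁻¹) = b * a' a * r a := fun b => by
      simp only [r, a', n]; group
    have hci : (a' a)⁻¹ ∈ vs P := by
      rw [mem_vs] at hc ⊢
      exact ⟨inv_mem hc.1, inv_ne_one.2 hc.2⟩
    rw [← Finset.add_sum_erase _ _ hci, he, inv_mul_cancel, one_mul, add_comm]
    congr 1
    rw [nC, ← Finset.sum_erase_eq_sub hc]
    refine Finset.sum_bij' (fun b _ => b * a' a) (fun c _ => c * (a' a)⁻¹) ?_ ?_ ?_ ?_ ?_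
    · intro b hb
      simp only [Finset.mem_erase, mem_vs, ne_eq] at hb ⊢
      exact ⟨by simpa using hb.2.2, mul_mem hb.2.1 (mem_vs.1 hc).1,
        fun h => hb.1 (eq_inv_of_mul_eq_one_left h)⟩
    · intro c hc'
      simp only [Finset.mem_erase, mem_vs, ne_eq] at hc' ⊢
      exact ⟨by simpa using hc'.2.2, mul_mem hc'.2.1 (inv_mem (mem_vs.1 hc).1),
        fun h => hc'.1 (by simpa using eq_inv_of_mul_eq_one_left h)⟩
    · intro b _; simp
    · intro c _; simp
    · intro b hb
      simp only [Finset.mem_erase, mem_vs, ne_eq] at hb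
      rw [he]
      refine hG.apply_mul P hM hχ hΘ hPΘ (mem_vs.2 ⟨mul_mem hb.2.1 (mem_vs.1 hc).1,
        fun h => hb.1 (eq_inv_of_mul_eq_one_left h)⟩) (hrΘ a ha)
  rw [Finset.sum_congr rfl hstep, Finset.sum_add_distrib, Finset.sum_sub_distrib,
    Finset.sum_const, nsmul_eq_mul]
  congr 2
  refine Finset.sum_equiv (MulAut.conj n).toEquiv (fun a => (hmem a).symm) fun a _ => rfl

omit hG

variable {M : Ideal AlgInt}

open scoped _root_.Classical in
/-- The principal block as a finite set. -/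
noncomputable def bl (M : Ideal AlgInt) (G : Type u) [Group G] [Fintype G] :
    Finset (IrrCharacter G) :=
  Finset.univ.filter fun χ => χ ∈ principalBlock M G

theorem mem_bl {χ : IrrCharacter G} : χ ∈ bl M G ↔ χ ∈ principalBlock M G := by
  classical
  simp [bl]

theorem sum_regular_mul_nC (hM : IsPModular p M) {u : G} (hu : ¬ p ∣ orderOf u) :
    ∑ χ ∈ bl M G, (χ : G → ℂ) u * nC P χ = 0 := by
  classical
  calc ∑ χ ∈ bl M G, (χ : G → ℂ) u * nC P χ
      = ∑ χ ∈ bl M G, ∑ a ∈ vs P, (χ : G → ℂ) u * conj ((χ : G → ℂ) a) := by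
        refine Finset.sum_congr rfl fun χ _ => ?_
        rw [← conj_nC P χ, nC, map_sum, Finset.mul_sum]
    _ = 0 := by
        rw [Finset.sum_comm]
        exact Finset.sum_eq_zero fun a ha =>
          block_orthogonality_regular hM (B := principalBlock M G) (isPBlock_blockOf (principal G)) hu
            (dvd_orderOf_vs ha)

/-- The degree as a real number. -/
noncomputable def dR (χ : IrrCharacter G) : ℝ := (deg (χ : G → ℂ) : ℝ)

theorem apply_one_eq (χ : IrrCharacter G) : (χ : G → ℂ) 1 = (dR χ : ℂ) := by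
  rw [irr_apply_one_eq_deg, dR]; norm_cast

theorem dR_pos (χ : IrrCharacter G) : 0 < dR χ := Nat.cast_pos.2 (deg_irr_pos χ)

theorem sum_dR_mul_nR (hM : IsPModular p M) : ∑ χ ∈ bl M G, dR χ * nR P χ = 0 := by
  have h := sum_regular_mul_nC P hM (u := (1 : G)) (by rw [orderOf_one]; exact hp.out.not_dvd_one)
  simp only [apply_one_eq, nC_eq] at h
  exact_mod_cast h

include hG

/-- The third moment. -/
theorem Ctx.third_moment (hM : IsPModular p M) :
    ∑ χ ∈ bl M G, nR P χ ^ 3 / dR χ =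
      (((vs P).card : ℝ) - 1) * ∑ χ ∈ bl M G, nR P χ ^ 2 := by
  classical
  choose r hr hrsum using fun g => hG.exists_regular P g
  have hG0 : (Nat.card G : ℂ) ≠ 0 := Nat.cast_ne_zero.2 Nat.card_pos.ne'
  have h : ∀ χ ∈ bl M G, (Nat.card G : ℂ) * (nC P χ ^ 3 / (χ : G → ℂ) 1) =
      (Nat.card G : ℂ) * ((((vs P).card : ℂ) - 1) * nC P χ ^ 2) +
        ∑ g : G, ∑ a ∈ vs P, (χ : G → ℂ) (r g a) * nC P χ := by
    intro χ hχ
    have h1 : ∑ a ∈ vs P, ∑ b ∈ vs P, ∑ g : G, (χ : G → ℂ) (b * (g * a * g⁻¹)) =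
        (Nat.card G : ℂ) * nC P χ * nC P χ / (χ : G → ℂ) 1 := by
      simp only [sum_conj_mul χ.2, nC, Finset.mul_sum, Finset.sum_mul, Finset.sum_div]
      rw [Finset.sum_comm]
    have h2 : ∑ a ∈ vs P, ∑ b ∈ vs P, ∑ g : G, (χ : G → ℂ) (b * (g * a * g⁻¹)) =
        ∑ g : G, (((vs P).card : ℂ) * nC P χ - nC P χ + ∑ a ∈ vs P, (χ : G → ℂ) (r g a)) := by
      rw [Finset.sum_congr rfl fun a _ => Finset.sum_comm, Finset.sum_comm]
      exact Finset.sum_congr rfl fun g _ => hrsum g hM (mem_bl.1 hχ)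
    rw [h1, Finset.sum_add_distrib, Finset.sum_const, Finset.card_univ, nsmul_eq_mul,
      ← Nat.card_eq_fintype_card] at h2
    simp only [← Finset.sum_mul]
    linear_combination (nC P χ) * h2
  have hz : ∑ χ ∈ bl M G, ∑ g : G, ∑ a ∈ vs P, (χ : G → ℂ) (r g a) * nC P χ = 0 := by
    rw [Finset.sum_comm]
    refine Finset.sum_eq_zero fun g _ => ?_
    rw [Finset.sum_comm]
    exact Finset.sum_eq_zero fun a ha => sum_regular_mul_nC P hM (hr g a ha)
  have h' := Finset.sum_congr rfl h
  rw [Finset.sum_add_distrib, hz, add_zero, ← Finset.mul_sum, ← Finset.mul_sum] at h'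
  have h'' := mul_left_cancel₀ hG0 h'
  simp only [apply_one_eq, nC_eq, ← Finset.mul_sum] at h''
  exact_mod_cast h''

theorem Ctx.colKer_self (hM : IsPModular p M) {a : G} (ha : a ∈ vs P) :
    colKer (principalBlock M G) a a =
      (((pPrimeCore p ↥(centralizer ({a} : Set G))).index : ℕ) : ℂ) := by
  classical
  set H := centralizer ({a} : Set G)
  letI := Fintype.ofFinite H
  haveI : (pPrimeCore p H).Normal := Cfsg.Lib.Components.pPrimeCore_normal' p
  have hs := hG.proper H (hG.centralizer_ne_top (mem_vs.1 ha).2)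
  rw [colKer_principal_self hM (orderOf_vs (mem_vs.1 ha).1), ← sum_sq_trivial_on,
    finsum_mem_eq_sum_of_inter_support_eq
      (t := Finset.univ.filter (· ∈ principalBlock M H)) _ (by simp; rfl), Nat.cast_sum]
  refine Finset.sum_congr ?_ fun ψ _ => ?_
  · exact Finset.filter_congr fun ψ _ => mem_principalBlock_iff_of_isPSolvable hM hs ψ
  · rw [charDegree_eq_deg, Nat.cast_pow, irr_apply_one_eq_deg, pow_two]

/-- The index of the part of the core in the normaliser is at least twice the subgroup. -/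
theorem Ctx.two_mul_le_relIndex {a : G} (ha : a ∈ vs P) :
    2 * Nat.card (wcl P) ≤
      (qcore' p (centralizer ({a} : Set G)) ⊓ normalizer (wcl P : Set G)).relIndex
        (normalizer (wcl P : Set G)) := by
  obtain ⟨haV, -⟩ := mem_vs.1 ha
  set V := wcl P
  set N := normalizer (V : Set G)
  set T := qcore' p (centralizer ({a} : Set G)) ⊓ N
  set i := T.relIndex N
  have hTc : (Nat.card T).Coprime p :=
    (coprime_qcore' (K := centralizer ({a} : Set G))).coprime_dvd_left (card_dvd_of_le inf_le_left)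
  have hcard : Nat.card T * i = Nat.card N := by
    rw [← Subgroup.relIndex_bot_left, ← Subgroup.relIndex_bot_left]
    exact Subgroup.relIndex_mul_relIndex _ _ _ bot_le inf_le_right
  obtain ⟨e, he⟩ := IsPGroup.iff_card.1 P.isPGroup'
  have hPi : Nat.card (P : Subgroup G) ∣ i := by
    refine ((he ▸ (hTc.symm.pow_left e)) : (Nat.card (P : Subgroup G)).Coprime _).dvd_of_dvd_mul_left ?_
    rw [hcard]
    exact card_dvd_of_le (le_normalizer_wcl P)
  have hVi : Nat.card V ∣ i := (card_dvd_of_le (wcl_le P)).trans hPi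
  have hi0 : i ≠ 0 := fun h => by
    rw [h, mul_zero] at hcard
    exact Nat.card_pos.ne' hcard.symm
  by_contra hlt
  obtain ⟨c, hc⟩ := hVi
  have hiV : i = Nat.card V := by
    rcases Nat.lt_or_ge c 2 with h | h
    · interval_cases c
      · exact absurd (by rw [hc, mul_zero]) hi0
      · rw [hc, mul_one]
    · exact absurd (by rw [hc, mul_comm 2]; exact Nat.mul_le_mul_left _ h) hlt
  have hVP : V = (P : Subgroup G) := eq_of_le_of_card_ge (wcl_le P)
    (Nat.le_of_dvd Nat.card_pos (hiV ▸ hPi))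
  have hVC : V ≤ centralizer ({a} : Set G) := fun v hv =>
    Subgroup.mem_centralizer_singleton_iff.2 (hG.wcl_comm P hv haV)
  have hVT : V ≤ normalizer (T : Set G) :=
    Cfsg.Lib.Coprime.le_normalizer_inf (hVC.trans (le_normalizer.trans le_normalizer_qcore'))
      (le_normalizer.trans le_normalizer)
  have hTV : ∀ t ∈ T, ∀ v ∈ V, t * v = v * t := by
    intro t ht v hv
    have h1 : t * v * t⁻¹ * v⁻¹ = 1 := by
      refine eq_one_of_isPGroup_of_coprime (wcl_isPGroup P) hTc
        (mul_mem ((Subgroup.mem_normalizer_iff.1 ht.2 v).1 hv) (inv_mem hv)) ?_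
      have := mul_mem ht ((Subgroup.mem_normalizer_iff.1 (hVT hv) t⁻¹).1 (inv_mem ht))
      simpa [mul_assoc] using this
    rw [mul_inv_eq_one, mul_inv_eq_iff_eq_mul] at h1
    exact h1
  obtain ⟨e', he'⟩ := IsPGroup.iff_card.1 (wcl_isPGroup P)
  have hsup : T ⊔ V = N := by
    refine eq_of_le_of_card_ge (sup_le inf_le_right le_normalizer) ?_
    rw [Cfsg.Lib.Coprime.card_sup_coprime hVT (he' ▸ hTc.pow_right e'), ← hcard, hiV]
  have hNC : normalizer ((P : Subgroup G) : Set G) ≤ centralizer ((P : Subgroup G) : Set G) := by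
    rw [← hVP]
    show N ≤ _
    rw [← hsup]
    refine sup_le (fun t ht => ?_) fun w hw => ?_ <;> rw [Subgroup.mem_centralizer_iff]
    · exact fun v hv => (hTV t ht v hv).symm
    · exact fun v hv => hG.wcl_comm P hv hw
  have hcompl := MonoidHom.ker_transferSylow_isComplement' P hNC
  rcases hG.simple _ (MonoidHom.normal_ker (MonoidHom.transferSylow P hNC)) with h | h <;>
    rw [h] at hcompl
  · exact hG.card_not_pGroup (P.isPGroup'.of_equiv
      ((MulEquiv.subgroupCongr (Subgroup.isComplement'_bot_left.1 hcompl)).trans Subgroup.topEquiv))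
  · exact hG.wcl_ne_bot P (hVP.trans (Subgroup.isComplement'_top_left.1 hcompl))

theorem Ctx.colKer_ge (hM : IsPModular p M) {a : G} (ha : a ∈ vs P) :
    2 * (Nat.card (wcl P) : ℝ) ≤ ∑ c ∈ vs P, (colKer (principalBlock M G) a c).re := by
  classical
  obtain ⟨haV, ha1⟩ := mem_vs.1 ha
  set C := centralizer ({a} : Set G) with hC
  set N := normalizer (wcl P : Set G)
  set S := C.subgroupOf N
  set j := (pPrimeCore p C).index
  have hval : ∀ c ∈ vs P, (colKer (principalBlock M G) a c).re = if IsConj a c then (j : ℝ) else 0 := by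
    intro c hc
    split_ifs with h
    · obtain ⟨g, rfl⟩ := isConj_iff.1 h
      rw [colKer_conj_right, hG.colKer_self P hM ha, Complex.natCast_re]
    · rw [colKer_of_not_isConj (B := principalBlock M G) hM (isPBlock_blockOf (principal G))
        (orderOf_vs haV) (orderOf_vs (mem_vs.1 hc).1) h, Complex.zero_re]
  rw [Finset.sum_congr rfl hval, ← Finset.sum_filter, Finset.sum_const, nsmul_eq_mul]
  have hcnt : S.index ≤ ((vs P).filter (IsConj a)).card := by
    let f : N ⧸ S → ↥((vs P).filter (IsConj a)) := fun q =>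
      ⟨(q.out : G) * a * (q.out : G)⁻¹, Finset.mem_filter.2 ⟨mem_vs.2
        ⟨(Subgroup.mem_normalizer_iff.1 q.out.2 a).1 haV,
          fun h => ha1 (conj_eq_one_iff.1 h)⟩, isConj_iff.2 ⟨_, rfl⟩⟩⟩
    have hf : Function.Injective f := by
      intro q q' h
      rw [← q.out_eq', ← q'.out_eq', QuotientGroup.eq]
      show ((q.out⁻¹ * q'.out : N) : G) ∈ C
      have h1 : (q.out : G) * a * (q.out : G)⁻¹ = (q'.out : G) * a * (q'.out : G)⁻¹ :=
        congrArg Subtype.val h
      rw [hC, Subgroup.mem_centralizer_singleton_iff]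
      push_cast
      calc (q.out : G)⁻¹ * q'.out * a = (q.out : G)⁻¹ * ((q'.out : G) * a * (q'.out : G)⁻¹) * q'.out := by group
        _ = _ := by rw [← h1]; group
    rw [Subgroup.index_eq_card, ← Nat.card_eq_finsetCard]
    exact Nat.card_le_card_of_injective f hf
  have hidx : (qcore' p C ⊓ N).relIndex N ≤ S.index * j := by
    have hle : qcore' p C ⊓ N ≤ C ⊓ N := inf_le_inf_right _ qcore'_le
    rw [← Subgroup.relIndex_mul_relIndex _ _ N hle inf_le_right]
    rw [show (C ⊓ N).relIndex N = S.index from Subgroup.inf_relIndex_right _ _, mul_comm]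
    refine Nat.mul_le_mul_left _ ?_
    have h1 : (qcore' p C ⊓ N).relIndex (C ⊓ N) = (qcore' p C).relIndex (C ⊓ N) := by
      rw [← Subgroup.inf_relIndex_right (qcore' p C) (C ⊓ N),
        ← Subgroup.inf_relIndex_right (qcore' p C ⊓ N) (C ⊓ N)]
      congr 1
      rw [inf_assoc]
      congr 1
      exact inf_eq_right.2 inf_le_right
    rw [h1]
    have h2 : (qcore' p C).relIndex C = j := by
      show ((qcore' p C).subgroupOf C).index = j
      rw [qcore', Subgroup.subgroupOf, Subgroup.comap_map_eq_self_of_injective C.subtype_injective]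
    rw [← h2]
    exact Subgroup.relIndex_le_of_le_right inf_le_left (by rw [h2]; exact Subgroup.index_ne_zero_of_finite)
  have h := (hG.two_mul_le_relIndex P ha).trans (hidx.trans (Nat.mul_le_mul_right _ hcnt))
  exact_mod_cast h

theorem Ctx.sum_sq_ge (hM : IsPModular p M) :
    ((vs P).card : ℝ) * (2 * (Nat.card (wcl P) : ℝ)) ≤ ∑ χ ∈ bl M G, nR P χ ^ 2 := by
  classical
  have h : ((∑ χ ∈ bl M G, nR P χ ^ 2 : ℝ) : ℂ) =
      ∑ a ∈ vs P, ∑ c ∈ vs P, colKer (principalBlock M G) a c := by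
    simp only [colKer_eq]
    rw [Finset.sum_congr rfl fun a _ => Finset.sum_comm, Finset.sum_comm]
    push_cast
    refine Finset.sum_congr (by ext; simp [mem_bl]) fun χ _ => ?_
    rw [pow_two, ← nC_eq]
    conv_lhs => arg 2; rw [← conj_nC P χ]
    rw [nC, map_sum, Finset.sum_mul_sum]
  have h2 : ∑ χ ∈ bl M G, nR P χ ^ 2 =
      ∑ a ∈ vs P, ∑ c ∈ vs P, (colKer (principalBlock M G) a c).re := by
    have := congrArg Complex.re h
    simpa only [Complex.ofReal_re, Complex.re_sum] using this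
  rw [h2, ← nsmul_eq_mul, ← Finset.sum_const]
  exact Finset.sum_le_sum fun a ha => hG.colKer_ge P hM ha

theorem Ctx.two_le_card_vs : 2 ≤ (vs P).card := by
  classical
  have hv := card_vs P
  have h1 : 1 < Nat.card (wcl P) := (Subgroup.one_lt_card_iff_ne_bot _).2 (hG.wcl_ne_bot P)
  by_contra! hlt
  have hk1 : (vs P).card = 1 := by omega
  have hv2 : Nat.card (wcl P) = 2 := by omega
  obtain ⟨e, he⟩ := IsPGroup.iff_card.1 (wcl_isPGroup P)
  have hp2 : p = 2 := by
    rw [hv2] at he
    have he0 : e ≠ 0 := fun h => by rw [h, pow_zero] at he; omega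
    exact ((Nat.prime_dvd_prime_iff_eq hp.out Nat.prime_two).1 (he ▸ dvd_pow_self p he0))
  obtain ⟨z, hz⟩ := Finset.card_eq_one.1 hk1
  have hzmem : ∀ a, a ∈ vs P ↔ a = z := fun a => by rw [hz, Finset.mem_singleton]
  obtain ⟨hzV, hz1⟩ := mem_vs.1 ((hzmem z).2 rfl)
  have hzord : orderOf z = 2 := by
    refine ((Nat.dvd_prime Nat.prime_two).1 (hv2 ▸ Subgroup.orderOf_dvd_natCard _ hzV)).resolve_left ?_
    exact fun h => hz1 (orderOf_eq_one_iff.1 h)
  have hzC : Cj p z := by
    by_contra hcon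
    refine hG.wcl_ne_bot P (eq_bot_iff.2 ((closure_le _).2 fun x hx => ?_))
    by_contra hx1
    have := (hzmem x).1 (mem_vs.2 ⟨subset_closure hx, hx1⟩)
    exact hcon (this ▸ hx.1)
  -- a conjugate of `z` lying in `P` is `z`
  have hfix : ∀ g : G, g * z * g⁻¹ ∈ (P : Subgroup G) → g * z * g⁻¹ = z := fun g hg =>
    (hzmem _).1 (mem_vs.2 ⟨subset_closure ⟨hzC.conj g, hg⟩, fun h => hz1 (conj_eq_one_iff.1 h)⟩)
  have hiso : Cfsg.IsIsolatedInvolution z := by
    refine ⟨hzord, fun g hg => ?_⟩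
    set c := g * z * g⁻¹
    have hcord : orderOf c = 2 := by
      rw [← hzord]; exact orderOf_injective (MulAut.conj g).toMonoidHom (MulAut.conj g).injective z
    have hQ : IsPGroup p ↥(zpowers z ⊔ zpowers c) := by
      have hg1 : IsPGroup p (zpowers z) :=
        IsPGroup.of_card (n := 1) (by rw [Nat.card_zpowers, hzord, hp2, pow_one])
      have hg2 : IsPGroup p (zpowers c) :=
        IsPGroup.of_card (n := 1) (by rw [Nat.card_zpowers, hcord, hp2, pow_one])
      refine IsPGroup.to_sup_of_normal_right' hg1 hg2 ?_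
      rw [zpowers_le]
      refine mem_normalizer_of_conj fun x hx => ?_
      obtain ⟨i, rfl⟩ := hx
      show z * c ^ i * z⁻¹ ∈ zpowers c
      rw [(hg.zpow_right i).eq, mul_inv_cancel_right]
      exact zpow_mem (mem_zpowers c) i
    obtain ⟨S, hS⟩ := hQ.exists_le_sylow
    obtain ⟨h, rfl⟩ := MulAction.exists_smul_eq G P S
    have hinP : ∀ x ∈ zpowers z ⊔ zpowers c, h⁻¹ * x * h⁻¹⁻¹ ∈ (P : Subgroup G) := by
      intro x hx
      obtain ⟨t, ht, rfl⟩ : ∃ t ∈ (P : Subgroup G), h * t * h⁻¹ = x := hS hx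
      convert ht using 1
      group
    have h3 := hfix _ (hinP z (mem_sup_left (mem_zpowers z)))
    have h4 := hfix (h⁻¹ * g) (by
      have := hinP c (mem_sup_right (mem_zpowers c))
      simpa [c, mul_assoc] using this)
    calc c = h * ((h⁻¹ * g) * z * (h⁻¹ * g)⁻¹) * h⁻¹ := by simp only [c]; group
      _ = h * (h⁻¹ * z * h⁻¹⁻¹) * h⁻¹ := by rw [h4, h3]
      _ = z := by group
  have hcore := Cfsg.Lib.ZStarApps.zstarProp hiso
  rcases hG.simple (pPrimeCore 2 G) (Cfsg.Lib.Components.pPrimeCore_normal' 2) with h | h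
  · refine hz1 ?_
    rw [← Subgroup.mem_bot, ← hG.center_eq_bot, Subgroup.mem_center_iff]
    intro g
    have hg := hcore g
    rw [h, Subgroup.mem_bot, mul_inv_eq_one, mul_inv_eq_iff_eq_mul] at hg
    exact hg.symm
  · have := Cfsg.Lib.Components.coprime_card_pPrimeCore (G := G) 2
    rw [h, Subgroup.card_top] at this
    have hd := hG.dvd_card
    rw [hp2] at hd
    exact (Nat.prime_two.coprime_iff_not_dvd.1 this.symm) hd

/-- A nontrivial character of the principal block with a large value sum. -/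
theorem Ctx.exists_large (hM : IsPModular p M) :
    ∃ χ ∈ bl M G, χ ≠ principal G ∧
      ((vs P).card : ℝ) * dR χ < (((vs P).card : ℝ) + 2) * nR P χ := by
  classical
  by_contra! hcon
  set k : ℝ := (((vs P).card : ℕ) : ℝ)
  have hk : 2 ≤ k := Nat.ofNat_le_cast.2 (hG.two_le_card_vs P)
  have hone : principal G ∈ bl M G := mem_bl.2 (mem_blockOf_self hM (principal G))
  have hn1 : nR P (principal G) = k := by
    have h : nC P (principal G) = ((vs P).card : ℂ) := by
      rw [nC, show ((principal G : IrrCharacter G) : G → ℂ) = fun _ => 1 from rfl]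
      simp
    rw [nR, h, Complex.natCast_re]
  have hd1 : dR (principal G) = 1 := by
    have h := apply_one_eq (principal G)
    rw [show ((principal G : IrrCharacter G) : G → ℂ) 1 = 1 from rfl] at h
    exact_mod_cast h.symm
  set B' := (bl M G).erase (principal G)
  have hsplit : ∀ f : IrrCharacter G → ℝ,
      ∑ χ ∈ bl M G, f χ = f (principal G) + ∑ χ ∈ B', f χ :=
    fun f => (Finset.add_sum_erase _ f hone).symm
  have h3 := hG.third_moment P hM
  rw [hsplit, hsplit, hn1, hd1, div_one] at h3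
  have h1 := sum_dR_mul_nR P hM
  rw [hsplit, hn1, hd1, one_mul] at h1
  have hK := hG.sum_sq_ge P hM
  rw [hsplit, hn1, show (Nat.card (wcl P) : ℝ) = k + 1 by
    rw [← card_vs P, Nat.cast_add, Nat.cast_one]] at hK
  set f : ℝ := k / (k + 2)
  obtain ⟨χ₀, hχ₀, hneg⟩ : ∃ χ ∈ B', dR χ * nR P χ < 0 := by
    by_contra! h
    have := Finset.sum_nonneg h
    linarith
  have hle : ∀ χ ∈ B', nR P χ ^ 2 * (k - 1 - f) ≤ nR P χ ^ 2 * (k - 1 - nR P χ / dR χ) := by
    intro χ hχ
    refine mul_le_mul_of_nonneg_left ?_ (sq_nonneg _)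
    have := hcon χ (Finset.mem_of_mem_erase hχ) (Finset.ne_of_mem_erase hχ)
    suffices nR P χ / dR χ ≤ f by linarith
    rw [div_le_div_iff₀ (dR_pos χ) (by linarith)]
    linarith
  have hlt : nR P χ₀ ^ 2 * (k - 1 - f) < nR P χ₀ ^ 2 * (k - 1 - nR P χ₀ / dR χ₀) := by
    have hn : nR P χ₀ < 0 := by
      by_contra! h
      have := mul_nonneg (dR_pos χ₀).le h
      linarith
    refine mul_lt_mul_of_pos_left ?_ (pow_two_pos_of_ne_zero hn.ne)
    have : nR P χ₀ / dR χ₀ < 0 := div_neg_of_neg_of_pos hn (dR_pos χ₀)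
    have : 0 ≤ f := by positivity
    linarith
  have hs := Finset.sum_lt_sum hle ⟨χ₀, hχ₀, hlt⟩
  rw [← Finset.sum_mul] at hs
  have hrhs : ∑ χ ∈ B', nR P χ ^ 2 * (k - 1 - nR P χ / dR χ) =
      (k - 1) * ∑ χ ∈ B', nR P χ ^ 2 - ∑ χ ∈ B', nR P χ ^ 3 / dR χ := by
    rw [Finset.mul_sum, ← Finset.sum_sub_distrib]
    exact Finset.sum_congr rfl fun χ _ => by ring
  rw [hrhs] at hs
  have hf : f * (k + 2) = k := div_mul_cancel₀ k (by linarith)
  have hf1 : f < 1 := (div_lt_one (by linarith)).2 (by linarith)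
  have hK' : k * (k + 2) ≤ ∑ χ ∈ B', nR P χ ^ 2 := by nlinarith
  have hlow : k * (k + 2) * (k - 1 - f) ≤ (∑ χ ∈ B', nR P χ ^ 2) * (k - 1 - f) :=
    mul_le_mul_of_nonneg_right hK' (by linarith)
  have hfin : k * (k + 2) * (k - 1 - f) = k * (k * k - 2) := by
    linear_combination (-k) * hf
  nlinarith

omit hG

section Rep

variable {W : Type*} [AddCommGroup W] [Module ℂ W] [FiniteDimensional ℂ W]
  (ρ : Representation ℂ G W)

theorem finrank_inv (H : Subgroup G) [Fintype H] :
    (Nat.card H : ℂ) * (Module.finrank ℂ (Representation.invariants (ρ.comp H.subtype)) : ℂ) =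
      ∑ h : H, ρ.character (h : G) := by
  have hne : (Nat.card H : ℂ) ≠ 0 := Nat.cast_ne_zero.2 Nat.card_pos.ne'
  haveI : Invertible (Nat.card H : ℂ) := invertibleOfNonzero hne
  rw [← Representation.card_inv_mul_sum_char_eq_finrank, mul_inv_cancel_left₀ hne]
  rfl

theorem mem_inv_iff (H : Subgroup G) (w : W) :
    w ∈ Representation.invariants (ρ.comp H.subtype) ↔ ∀ h ∈ H, ρ h w = w :=
  ⟨fun hw h hh => hw ⟨h, hh⟩, fun hw h => hw h h.2⟩

/-- The stabiliser of a vector. -/
def vecStab (w : W) : Subgroup G where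
  carrier := {g | ρ g w = w}
  one_mem' := by simp
  mul_mem' := by
    intro a b ha hb
    show ρ (a * b) w = w
    rw [map_mul, Module.End.mul_apply, show ρ b w = w from hb, show ρ a w = w from ha]
  inv_mem' := by
    intro a ha
    show ρ a⁻¹ w = w
    nth_rewrite 1 [← show ρ a w = w from ha]
    rw [← Module.End.mul_apply, ← map_mul, inv_mul_cancel, map_one]
    rfl

theorem inv_sup (H K : Subgroup G) :
    Representation.invariants (ρ.comp (H ⊔ K).subtype) =
      Representation.invariants (ρ.comp H.subtype) ⊓ Representation.invariants (ρ.comp K.subtype) := by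
  ext w
  simp only [Submodule.mem_inf, mem_inv_iff]
  refine ⟨fun h => ⟨fun a ha => h a (mem_sup_left ha), fun a ha => h a (mem_sup_right ha)⟩,
    fun h g hg => ?_⟩
  exact (sup_le (c := vecStab ρ w) (fun a ha => h.1 a ha) (fun a ha => h.2 a ha)) hg

end Rep

include hG

/-- Two invariant `p'`-subgroups do not generate the group. -/
theorem Ctx.sup_ne_top {X₁ X₂ : Subgroup G} (h1 : (Nat.card X₁).Coprime p)
    (hP1 : (P : Subgroup G) ≤ normalizer (X₁ : Set G)) (h2 : (Nat.card X₂).Coprime p)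
    (hP2 : (P : Subgroup G) ≤ normalizer (X₂ : Set G)) : X₁ ⊔ X₂ ≠ ⊤ := by
  classical
  obtain ⟨M, hM⟩ := exists_isPModular hp.out
  obtain ⟨χ, hχ, hne, hlarge⟩ := hG.exists_large P hM
  obtain ⟨m, ρ, hρ, hρχ⟩ := χ.2
  set k : ℝ := (((vs P).card : ℕ) : ℝ)
  set V := wcl P
  set IV := Representation.invariants (ρ.comp V.subtype)
  have hv : (Nat.card V : ℝ) = k + 1 := by
    rw [← card_vs P, Nat.cast_add, Nat.cast_one]
  have hsumV : ∑ h : V, ρ.character (h : G) = (χ : G → ℂ) 1 + nC P χ := by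
    rw [← Finset.sum_subtype (Finset.univ.filter (· ∈ V)) (fun x => by simp) ρ.character, hρχ,
      ← Finset.add_sum_erase _ _ (show (1 : G) ∈ Finset.univ.filter (· ∈ V) by simp [one_mem]), nC]
    congr 2
    ext a
    simp [mem_vs, and_comm, V]
  have hdV : (k + 1) * (Module.finrank ℂ IV : ℝ) = dR χ + nR P χ := by
    have h := finrank_inv ρ V
    rw [hsumV, apply_one_eq, nC_eq] at h
    rw [← hv]
    exact_mod_cast h
  have step : ∀ X : Subgroup G, (Nat.card X).Coprime p →
      (P : Subgroup G) ≤ normalizer (X : Set G) →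
      ∃ c e : ℝ, c = (Module.finrank ℂ (Representation.invariants (ρ.comp X.subtype)) : ℝ) ∧
        e = (Module.finrank ℂ
          ↥(Representation.invariants (ρ.comp X.subtype) ⊓ IV : Submodule ℂ _) : ℝ) ∧
        e ≤ c ∧ (k + 1) * e = c + nR P χ := by
    intro X hX hPX
    refine ⟨_, _, rfl, rfl, Nat.cast_le.2 (Submodule.finrank_mono inf_le_left), ?_⟩
    rw [← inv_sup]
    have hVX : V ≤ normalizer (X : Set G) := (wcl_le P).trans hPX
    obtain ⟨ev, hev⟩ := IsPGroup.iff_card.1 (wcl_isPGroup P)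
    have hcop : (Nat.card X).Coprime (Nat.card V) := hev ▸ hX.pow_right ev
    let e : X × V → ↥(X ⊔ V) := fun q =>
      ⟨(q.2 : G) * q.1, mul_mem (mem_sup_right q.2.2) (mem_sup_left q.1.2)⟩
    have he : Function.Bijective e := by
      refine (Nat.bijective_iff_injective_and_card _).2 ⟨?_, ?_⟩
      · rintro ⟨x, v⟩ ⟨x', v'⟩ h
        have h' : (v : G) * x = v' * x' := congrArg Subtype.val h
        have h0 : ((v' : G)⁻¹ * v) = (x' : G) * (x : G)⁻¹ := by
          calc (v' : G)⁻¹ * v = (v' : G)⁻¹ * ((v : G) * x) * (x : G)⁻¹ := by group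
            _ = _ := by rw [h']; group
        have h1' := Cfsg.Lib.Coprime.eq_one_of_coprime hcop
          (h0 ▸ mul_mem x'.2 (inv_mem x.2)) (mul_mem (inv_mem v'.2) v.2)
        have hvv : v = v' := Subtype.ext (inv_mul_eq_one.1 h1').symm
        subst hvv
        rw [h1'] at h0
        exact Prod.ext (Subtype.ext (mul_inv_eq_one.1 h0.symm).symm) rfl
      · rw [Nat.card_prod, Cfsg.Lib.Coprime.card_sup_coprime hVX hcop]
    have hsum : ∑ h : ↥(X ⊔ V), ρ.character (h : G) =
        ∑ x : X, (χ : G → ℂ) x + (Nat.card X : ℂ) * nC P χ := by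
      rw [← Fintype.sum_bijective e he (fun q => (χ : G → ℂ) ((q.2 : G) * q.1)) _
        (fun q => by rw [hρχ]), Fintype.sum_prod_type, Finset.sum_comm,
        ← Finset.sum_subtype (Finset.univ.filter (· ∈ V)) (fun x => by simp)
          (fun b => ∑ x : X, (χ : G → ℂ) (b * x)),
        ← Finset.add_sum_erase _ _ (show (1 : G) ∈ Finset.univ.filter (· ∈ V) by simp [one_mem])]
      congr 1
      · simp
      · rw [show (Finset.univ.filter (· ∈ V)).erase 1 = vs P from by
          ext a; simp [mem_vs, and_comm, V], nC, Finset.mul_sum]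
        refine Finset.sum_congr rfl fun a ha => ?_
        rw [Finset.sum_congr rfl fun (x : X) _ => hG.apply_mul P hM (mem_bl.1 hχ) hX hPX ha x.2,
          Finset.sum_const, Finset.card_univ, nsmul_eq_mul, Nat.card_eq_fintype_card]
    have hL := finrank_inv ρ (X ⊔ V)
    rw [hsum, Cfsg.Lib.Coprime.card_sup_coprime hVX hcop, ← hρχ, ← finrank_inv ρ X, nC_eq,
      Nat.cast_mul, mul_assoc, ← mul_add] at hL
    have hL' := mul_left_cancel₀ (Nat.cast_ne_zero.2 Nat.card_pos.ne') hL
    rw [← hv]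
    exact_mod_cast hL'
  obtain ⟨c₁, e₁, -, he₁, hle₁, heq₁⟩ := step X₁ h1 hP1
  obtain ⟨c₂, e₂, -, he₂, hle₂, heq₂⟩ := step X₂ h2 hP2
  have hk : 2 ≤ k := Nat.ofNat_le_cast.2 (hG.two_le_card_vs P)
  have hkey : (Module.finrank ℂ IV : ℝ) < e₁ + e₂ := by
    have h4 : nR P χ ≤ k * c₁ := by nlinarith
    have h5 : nR P χ ≤ k * c₂ := by nlinarith
    have h6 : k * dR χ < k * (c₁ + c₂ + nR P χ) := by nlinarith
    have h7 := lt_of_mul_lt_mul_left h6 (by linarith)
    nlinarith
  intro htop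
  set A₁ := Representation.invariants (ρ.comp X₁.subtype) ⊓ IV
  set A₂ := Representation.invariants (ρ.comp X₂.subtype) ⊓ IV
  have hne' : A₁ ⊓ A₂ ≠ ⊥ := by
    intro h
    have h1' := Submodule.finrank_sup_add_finrank_inf_eq A₁ A₂
    rw [h, finrank_bot, add_zero] at h1'
    have h2' := Submodule.finrank_mono (sup_le (inf_le_right : A₁ ≤ IV) (inf_le_right : A₂ ≤ IV))
    rw [h1'] at h2'
    have h3' : (Module.finrank ℂ A₁ : ℝ) + Module.finrank ℂ A₂ ≤ Module.finrank ℂ IV := by
      exact_mod_cast h2'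
    rw [← he₁, ← he₂] at h3'
    linarith
  have hle : A₁ ⊓ A₂ ≤ Representation.invariants (ρ.comp (X₁ ⊔ X₂).subtype) := by
    rw [inv_sup]
    exact inf_le_inf inf_le_left inf_le_left
  have hzero : Module.finrank ℂ (Representation.invariants ρ) = 0 := by
    haveI : Invertible (Nat.card G : ℂ) :=
      invertibleOfNonzero (Nat.cast_ne_zero.2 Nat.card_pos.ne')
    have h := classInner_irr_ne hne
    rw [classInner_def, ← hρχ] at h
    simp only [show ∀ x, ((principal G : IrrCharacter G) : G → ℂ) x = 1 from fun _ => rfl,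
      map_one, mul_one] at h
    rw [Representation.card_inv_mul_sum_char_eq_finrank] at h
    exact_mod_cast h
  refine hne' (le_bot_iff.1 fun w hw => ?_)
  rw [← Submodule.finrank_eq_zero.1 hzero]
  exact fun g => (mem_inv_iff ρ _ w).1 (hle hw) g (htop.ge (mem_top g))

end Cfsg.Lib.PairSylow
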