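import Cfsg.Agent.PairSylow.Chars

/-!
A finite group in which every two Sylow `p`-subgroups generate a `p`-solvable subgroup is `p`-solvable.
-/

set_option autoImplicit false
set_option linter.unusedSectionVars false
set_option linter.style.haveILetI false

namespace Cfsg.Lib.PairSylow

open Subgroup Cfsg.Lib.Sft

universe u

variable {G : Type u} [Group G] [Finite G] {p : ℕ} [hp : Fact p.Prime]

/-- In a `p`-solvable subgroup containing a Sylow subgroup, invariant `p'`-subgroups lie in the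
`p'`-core. -/
theorem le_qcore'_of_invariant (P : Sylow p G) {H W : Subgroup G} (hH : Cfsg.IsPSolvable p H)
    (hPH : (P : Subgroup G) ≤ H) (hWH : W ≤ H) (hW : (Nat.card W).Coprime p)
    (hPW : (P : Subgroup G) ≤ normalizer (W : Set G)) : W ≤ qcore' p H := by
  set π := QuotientGroup.mk' (Cfsg.pPrimeCore p H)
  set U := Cfsg.pCore p (H ⧸ Cfsg.pPrimeCore p H)
  have hUp : IsPGroup p U := Cfsg.Lib.Components.isPGroup_pCore p
  set W' := (W.subgroupOf H).map π
  have hWc : (Nat.card W').Coprime p := by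
    refine hW.coprime_dvd_left ((card_map_dvd _ _).trans ?_)
    rw [Nat.card_congr (Subgroup.subgroupOfEquivOfLe hWH).toEquiv]
  intro w hw
  refine ⟨⟨w, hWH hw⟩, ?_, rfl⟩
  rw [SetLike.mem_coe, ← QuotientGroup.eq_one_iff]
  have hwW : π ⟨w, hWH hw⟩ ∈ W' := ⟨⟨w, hWH hw⟩, hw, rfl⟩
  refine eq_one_of_isPGroup_of_coprime hUp hWc (centralizer_pCore_quotient hH ?_) hwW
  rw [Subgroup.mem_centralizer_iff]
  intro c hc
  obtain ⟨t, ht, htc⟩ := Cfsg.Lib.Coprime.pCore_le_sylow p
    ((P.subtype hPH).mapSurjective (QuotientGroup.mk'_surjective _)) hc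
  have h1 : c * π ⟨w, hWH hw⟩ * c⁻¹ * (π ⟨w, hWH hw⟩)⁻¹ = 1 := by
    refine eq_one_of_isPGroup_of_coprime hUp hWc ?_ ?_
    · have := U.mul_mem hc ((inferInstance : U.Normal).conj_mem _ (U.inv_mem hc) (π ⟨w, hWH hw⟩))
      simpa [mul_assoc] using this
    · refine mul_mem ?_ (inv_mem hwW)
      rw [← htc]
      exact ⟨t * ⟨w, hWH hw⟩ * t⁻¹,
        (Subgroup.mem_normalizer_iff.1 (hPW ht) w).1 hw, by simp [π]⟩
  rw [mul_inv_eq_one, mul_inv_eq_iff_eq_mul] at h1
  exact h1

variable (hG : Ctx p G)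
include hG

/-- There is no minimal counterexample. -/
theorem Ctx.false : False := by
  letI := Fintype.ofFinite G
  obtain ⟨P⟩ := (inferInstance : Nonempty (Sylow p G))
  set N := normalizer (wcl P : Set G)
  have hN : N ≠ ⊤ := hG.normalizer_wcl_ne_top P
  have hPN : (P : Subgroup G) ≤ N := le_normalizer_wcl P
  -- the largest invariant subgroup of order prime to `p`
  let Inv : Subgroup G → Prop := fun X =>
    (Nat.card X).Coprime p ∧ (P : Subgroup G) ≤ normalizer (X : Set G)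
  obtain ⟨Y, hYI, hYmax⟩ :=
    Set.Finite.exists_maximalFor (fun X : Subgroup G => Nat.card X) {X : Subgroup G | Inv X}
      (Set.toFinite _)
      ⟨⊥, by simp, fun g _ => by rw [normalizer_eq_top_iff.2 inferInstance]; exact mem_top g⟩
  obtain ⟨hY, hPY⟩ := hYI
  have hall : ∀ X, Inv X → X ≤ Y := by
    rintro X ⟨hX, hPX⟩
    set H := X ⊔ Y ⊔ (P : Subgroup G)
    have hPn : (P : Subgroup G) ≤ normalizer ((X ⊔ Y : Subgroup G) : Set G) :=
      Cfsg.Lib.Coprime.le_normalizer_sup hPX hPY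
    have hH : H ≠ ⊤ := by
      intro htop
      have hn : normalizer ((X ⊔ Y : Subgroup G) : Set G) = ⊤ := by
        rw [← top_le_iff, ← htop]
        exact sup_le le_normalizer hPn
      rcases hG.simple _ (normalizer_eq_top_iff.1 hn) with h | h
      · have hPtop : (P : Subgroup G) = ⊤ := by
          rw [← htop, show H = (X ⊔ Y) ⊔ (P : Subgroup G) from rfl, h, bot_sup_eq]
        exact hG.card_not_pGroup (P.isPGroup'.of_equiv
          ((MulEquiv.subgroupCongr hPtop).trans Subgroup.topEquiv))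
      · exact hG.sup_ne_top P hX hPX hY hPY h
    have hle : X ⊔ Y ≤ qcore' p H := sup_le
      (le_qcore'_of_invariant P (hG.proper H hH) le_sup_right (le_sup_left.trans le_sup_left) hX hPX)
      (le_qcore'_of_invariant P (hG.proper H hH) le_sup_right (le_sup_right.trans le_sup_left) hY hPY)
    have hI : Inv (X ⊔ Y) := ⟨coprime_qcore'.coprime_dvd_left (card_dvd_of_le hle), hPn⟩
    have := hYmax (j := X ⊔ Y) hI (Subgroup.card_le_of_le le_sup_right)
    rw [eq_of_le_of_card_ge le_sup_right this]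
    exact le_sup_left
  have hcoreN : qcore' p N ≤ Y :=
    hall _ ⟨coprime_qcore', hPN.trans (le_normalizer.trans le_normalizer_qcore')⟩
  -- decomposition
  have hdec : ∀ g : G, ∃ k ∈ Y, k⁻¹ * g ∈ N ∧ g⁻¹ * k * g ∈ Y := by
    intro g
    obtain ⟨k, Θ, hn, hk, hΘ, hPΘ, hgΘ⟩ := hG.exists_theta P g
    refine ⟨k, hall Θ ⟨hΘ, hPΘ⟩ hk, hn, ?_⟩
    have h1 : Inv (Θ.map (MulAut.conj g⁻¹).toMonoidHom) := by
      refine ⟨by rw [card_map_of_injective (MulAut.conj g⁻¹).injective]; exact hΘ, fun t ht => ?_⟩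
      refine mem_normalizer_of_conj ?_
      rintro _ ⟨x, hx, rfl⟩
      refine ⟨(g * t * g⁻¹) * x * (g * t * g⁻¹)⁻¹, ?_, by simp [mul_assoc]⟩
      exact (Subgroup.mem_normalizer_iff.1 (hgΘ ⟨t, ht, rfl⟩) x).1 hx
    exact hall _ h1 ⟨k, hk, by simp [mul_assoc]⟩
  have hnorm : ∀ n₀ ∈ N, n₀⁻¹ ∈ normalizer (Y : Set G) := by
    intro n₀ hn₀
    refine mem_normalizer_of_conj fun y hy => ?_
    obtain ⟨k, hk, hn, hconj⟩ := hdec (y * n₀)
    have hy0 : k⁻¹ * y ∈ Y ⊓ N := by
      refine Subgroup.mem_inf.2 ⟨mul_mem (inv_mem hk) hy, ?_⟩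
      have := mul_mem hn (inv_mem hn₀)
      simpa [mul_assoc] using this
    have hy0' : k⁻¹ * y ∈ qcore' p N :=
      le_qcore'_of_invariant P (hG.proper N hN) hPN inf_le_right
        (hY.coprime_dvd_left (card_dvd_of_le inf_le_left))
        (Cfsg.Lib.Coprime.le_normalizer_inf hPY (hPN.trans le_normalizer)) hy0
    have hc : n₀⁻¹ * (k⁻¹ * y) * n₀⁻¹⁻¹ ∈ Y :=
      hcoreN ((Subgroup.mem_normalizer_iff.1
        (le_normalizer_qcore' (le_normalizer (inv_mem hn₀))) _).1 hy0')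
    have hc2 : n₀⁻¹ * (y⁻¹ * k * y) * n₀⁻¹⁻¹ ∈ Y := by
      simpa [mul_assoc] using hconj
    simpa [mul_assoc] using mul_mem hc hc2
  have htop : normalizer (Y : Set G) = ⊤ := by
    rw [eq_top_iff]
    intro g _
    obtain ⟨k, hk, hn, -⟩ := hdec g
    have h := mul_mem (le_normalizer (H := Y) hk) (inv_mem (hnorm _ hn))
    simpa using h
  rcases hG.simple _ (normalizer_eq_top_iff.1 htop) with h | h
  · refine hN (eq_top_iff.2 fun g _ => ?_)
    obtain ⟨k, hk, hn, -⟩ := hdec g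
    rw [h, Subgroup.mem_bot] at hk
    simpa [hk] using hn
  · rw [h, Subgroup.card_top] at hY
    exact hp.out.coprime_iff_not_dvd.1 hY.symm hG.dvd_card

omit hG

/-- The criterion. -/
theorem isPSolvable_iff (P : Sylow p G) :
    Cfsg.IsPSolvable p G ↔ ∀ g : G, Cfsg.IsPSolvable p
      ↥((P : Subgroup G) ⊔ (P : Subgroup G).map (MulAut.conj g).toMonoidHom) :=
  ⟨fun h g => Cfsg.Lib.SolvStruct.CoprimeOrbits.isPSolvable_subgroup h hp.out _,
    fun h => isPSolvable_of_hyp (fun _ _ _ hX => hX.false) G (hyp_of_pair P h)⟩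

end Cfsg.Lib.PairSylow
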